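import Groth.Agent.CohBig.Small
import Groth.Agent.CohBound.Pieces
import Mathlib.AlgebraicGeometry.ZariskisMainTheorem

/-!
Chains of specialisations: lifting along closed maps, and the locus over which a proper map is finite.
-/

set_option autoImplicit false
set_option linter.style.haveILetI false

universe u

open CategoryTheory AlgebraicGeometry TopologicalSpace

noncomputable section

namespace Groth.Agent.CohBig

/-- A chain of specialisations, generality increasing with the index. -/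
abbrev IsCh {X : Type u} [TopologicalSpace X] {n : ℕ} (c : Fin (n + 1) → X) : Prop :=
  ∀ i j, i < j → c j ⤳ c i ∧ c i ≠ c j

variable {X Y : Scheme.{u}}

lemma IsCh.snoc {n : ℕ} {c : Fin (n + 1) → X} (hc : IsCh c) {w : X} (hw : w ⤳ c (Fin.last n))
    (hne : w ≠ c (Fin.last n)) : IsCh (Fin.snoc c w : Fin (n + 2) → X) := by
  intro i j hij
  induction j using Fin.lastCases with
  | last =>
    obtain ⟨i, rfl⟩ := Fin.exists_castSucc_eq.2 hij.ne
    rw [Fin.snoc_last, Fin.snoc_castSucc]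
    rcases (Fin.le_last i).lt_or_eq with h | h
    · refine ⟨hw.trans (hc _ _ h).1, fun e => hne ?_⟩
      exact (hw.antisymm (e ▸ (hc _ _ h).1)).eq
    · exact ⟨h ▸ hw, fun e => hne (h ▸ e.symm)⟩
  | cast j =>
    obtain ⟨i, rfl⟩ := Fin.exists_castSucc_eq.2 (Fin.ne_last_of_lt hij)
    rw [Fin.snoc_castSucc, Fin.snoc_castSucc]
    exact hc i j hij

lemma IsCh.cons {n : ℕ} {c : Fin (n + 1) → X} (hc : IsCh c) {w : X} (hw : c 0 ⤳ w)
    (hne : w ≠ c 0) : IsCh (Fin.cons w c : Fin (n + 2) → X) := by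
  intro i j hij
  induction i using Fin.cases with
  | zero =>
    obtain ⟨j, rfl⟩ := Fin.exists_succ_eq.2 hij.ne'
    rw [Fin.cons_zero, Fin.cons_succ]
    rcases (Fin.zero_le j).lt_or_eq with h | h
    · refine ⟨(hc _ _ h).1.trans hw, fun e => hne ?_⟩
      exact ((show w ⤳ c 0 from e ▸ (hc _ _ h).1).antisymm hw).eq
    · exact ⟨h ▸ hw, fun e => hne (h ▸ e)⟩
  | succ i =>
    obtain ⟨j, rfl⟩ := Fin.exists_succ_eq.2 (Fin.ne_zero_of_lt hij)
    rw [Fin.cons_succ, Fin.cons_succ]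
    exact hc i j (Fin.succ_lt_succ_iff.1 hij)

/-- No chain is longer than the dimension. -/
lemma not_isCh {d : ℕ} (hd : topologicalKrullDim X ≤ d) {n : ℕ} (hn : d < n) (c : Fin (n + 1) → X) :
    ¬ IsCh c := fun hc => by
  have h : (n : WithBot ℕ∞) ≤ (d : ℕ) := (Intersect.le_dim_of_chain c hc).trans hd
  exact absurd (by exact_mod_cast h : n ≤ d) (by omega)

/-- The top of a chain of maximal length has no proper generisation. -/
lemma eq_of_specializes_last {d : ℕ} (hd : topologicalKrullDim X ≤ d) {c : Fin (d + 1) → X} (hc : IsCh c)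
    {w : X} (hw : w ⤳ c (Fin.last d)) : w = c (Fin.last d) :=
  by_contra fun hne => not_isCh hd (Nat.lt_succ_self d) _ (hc.snoc hw hne)

/-- The top of a chain of maximal length lies in every dense open. -/
theorem mem_of_dense [IsNoetherian X] {d : ℕ} (hd : topologicalKrullDim X ≤ d) {c : Fin (d + 1) → X}
    (hc : IsCh c) (D : X.Opens) (hD : Dense (D : Set X)) : c (Fin.last d) ∈ D := by
  obtain ⟨Z, hZf, -, hZ⟩ := CohBound.exists_max_points (X := X) (B := Set.univ) isClosed_univ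
  set x := c (Fin.last d)
  have hA : IsClosed (⋃ w ∈ Z \ {x}, closure ({w} : Set X)) :=
    (hZf.subset Set.diff_subset).isClosed_biUnion fun _ _ => isClosed_closure
  have hx : x ∈ (⋃ w ∈ Z \ {x}, closure ({w} : Set X))ᶜ := fun h => by
    simp only [Set.mem_iUnion] at h
    obtain ⟨w, ⟨-, hwx⟩, hw⟩ := h
    exact hwx (eq_of_specializes_last hd hc (specializes_iff_mem_closure.2 hw))
  obtain ⟨u, hu, huD⟩ := hD.inter_open_nonempty _ hA.isOpen_compl ⟨x, hx⟩
  obtain ⟨w, hwZ, hw⟩ := hZ u (Set.mem_univ u)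
  by_cases hwx : w = x
  · exact (hwx ▸ hw).mem_open D.2 huD
  · exact absurd (Set.mem_biUnion (show w ∈ Z \ {x} from ⟨hwZ, hwx⟩) hw.mem_closure) hu

theorem noLong_bot {d : ℕ} (hd : topologicalKrullDim X ≤ d) : NoLong (⊥ : X.Opens) (d + 1) :=
  fun c _ hc => not_isCh hd (Nat.lt_succ_self d) c hc

theorem noLong_dense [IsNoetherian X] {d : ℕ} (hd : topologicalKrullDim X ≤ d) (U : X.Opens)
    (hU : Dense (U : Set X)) : NoLong U d := fun c hc hcc =>
  hc (Fin.last d) (mem_of_dense hd hcc U hU)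

/-- Points of codimension at least two have two successive proper generisations. -/
theorem exists_two_generisations {x : X} (h : ¬ ringKrullDim (X.presheaf.stalk x) ≤ 1) :
    ∃ z₁ z₂ : X, z₁ ⤳ x ∧ z₁ ≠ x ∧ z₂ ⤳ z₁ ∧ z₂ ≠ z₁ := by
  by_contra hno
  refine h ?_
  rw [ringKrullDim_stalk_eq_coheight]
  refine WithBot.coe_le_coe.2 (Order.coheight_le fun p hp => ?_)
  by_contra hlen
  have hl : 2 ≤ p.length := by
    rw [not_le] at hlen
    have h : 1 < p.length := by exact_mod_cast hlen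
    omega
  have h01 : p ⟨0, by omega⟩ < p ⟨1, by omega⟩ := p.strictMono (Fin.mk_lt_mk.2 (by omega))
  have h12 : p ⟨1, by omega⟩ < p ⟨2, by omega⟩ := p.strictMono (Fin.mk_lt_mk.2 (by omega))
  have hx : x ≤ p.head := hp.ge
  exact hno ⟨p ⟨1, by omega⟩, p ⟨2, by omega⟩, hx.trans h01.le, (hx.trans_lt h01).ne',
    h12.le, h12.ne'⟩

/-- A fibre without specialisations is finite. -/
theorem finite_fibre [IsNoetherian Y] (f : Y ⟶ X) (x : X)
    (h : ∀ w y : Y, f w = x → f y = x → w ⤳ y → w = y) : (f ⁻¹' {x} : Set Y).Finite := by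
  obtain ⟨Z, hZf, hZs, hZ⟩ := CohBound.exists_max_points (X := Y)
    (B := f ⁻¹' closure ({x} : Set X)) (isClosed_closure.preimage f.continuous)
  refine hZf.subset fun y (hy : f y = x) => ?_
  obtain ⟨w, hwZ, hw⟩ := hZ y (show f y ∈ closure ({x} : Set X) from hy ▸ subset_closure rfl)
  have hwx : f w = x :=
    ((hy ▸ hw.map f.continuous : f w ⤳ x).antisymm (specializes_iff_mem_closure.2 (hZs hwZ))).eq
  exact h w y hwx hy hw ▸ hwZ

/-- A point in a fibre without specialisations is quasi-finite. -/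
theorem quasiFiniteAt_of_fibre [IsNoetherian Y] (f : Y ⟶ X) [LocallyOfFiniteType f] (y : Y)
    (h : ∀ w y' : Y, f w = f y → f y' = f y → w ⤳ y' → w = y') : f.QuasiFiniteAt y := by
  refine Scheme.Hom.quasiFiniteAt_iff_isOpen_singleton_asFiber.2 ?_
  rw [← (f.fiberHomeo (f y)).isOpen_image]
  simp only [Set.image_singleton, Scheme.Hom.asFiber, Homeomorph.apply_symm_apply]
  haveI : Finite (f ⁻¹' {f y} : Set Y) := (finite_fibre f (f y) h).to_subtype
  haveI : T1Space (f ⁻¹' {f y} : Set Y) :=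
    t1Space_iff_specializes_imp_eq.2 fun a b hab =>
      Subtype.ext (h a.1 b.1 a.2 b.2 (subtype_specializes_iff a b |>.1 hab))
  exact isOpen_discrete _

/-- A fibre of quasi-finite points has no specialisations. -/
theorem eq_of_quasiFiniteAt (f : Y ⟶ X) [LocallyOfFiniteType f] {w y : Y} (hy : f.QuasiFiniteAt y)
    (hwy : f w = f y) (hs : w ⤳ y) : w = y := by
  have h := Scheme.Hom.quasiFiniteAt_iff_isOpen_singleton_asFiber.1 hy
  rw [← (f.fiberHomeo (f y)).isOpen_image] at h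
  simp only [Set.image_singleton, Scheme.Hom.asFiber, Homeomorph.apply_symm_apply] at h
  have hs' : (⟨w, hwy⟩ : (f ⁻¹' {f y} : Set Y)) ⤳ ⟨y, rfl⟩ := (subtype_specializes_iff _ _).2 hs
  exact congrArg Subtype.val (hs'.mem_open h rfl : (⟨w, hwy⟩ : (f ⁻¹' {f y} : Set Y)) ∈ ({⟨y, rfl⟩} : Set _))

/-- The open over which all points are quasi-finite. -/
def finLocus (f : Y ⟶ X) [IsProper f] : X.Opens :=
  ⟨(f '' (f.quasiFiniteLocus : Set Y)ᶜ)ᶜ, (f.isClosedMap _ f.quasiFiniteLocus.2.isClosed_compl).isOpen_compl⟩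

theorem isFinite_finLocus [IsNoetherian Y] (f : Y ⟶ X) [IsProper f] {O : X.Opens} (hO : O ≤ finLocus f) :
    IsFinite (f ∣_ O) := by
  haveI : IsProper (f ∣_ O) := IsZariskiLocalAtTarget.restrict (P := @IsProper) ‹_› O
  haveI : LocallyQuasiFinite (f ∣_ O) := LocallyQuasiFinite.of_finite_preimage_singleton _ fun x => by
    have hfin : (f ⁻¹' {x.1} : Set Y).Finite := finite_fibre f x.1 fun w y hw hy hs => by
      refine eq_of_quasiFiniteAt f ?_ (hw.trans hy.symm) hs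
      by_contra hq
      exact hO x.2 ⟨y, hq, hy⟩
    refine (hfin.preimage (f := (f ⁻¹ᵁ O).ι) (f ⁻¹ᵁ O).ι.injective.injOn).subset fun z hz => ?_
    show f ((f ⁻¹ᵁ O).ι z) = x.1
    rw [← Scheme.Hom.comp_apply, ← morphismRestrict_ι, Scheme.Hom.comp_apply,
      show (f ∣_ O) z = x from hz]
    rfl
  exact IsFinite.of_isProper_of_locallyQuasiFinite _

/-- Lifting a chain along a closed map below a given point. -/
theorem exists_lift_chain (f : Y ⟶ X) [IsProper f] : ∀ {n : ℕ} (c : Fin (n + 1) → X), IsCh c →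
    ∀ y : Y, f y = c (Fin.last n) → ∃ c' : Fin (n + 1) → Y, IsCh c' ∧ c' (Fin.last n) = y ∧
      ∀ i, f (c' i) = c i
  | 0, c, _, y, hy => ⟨fun _ => y, fun i j hij => absurd hij (by omega),
      rfl, fun i => hy.trans (congrArg c (Fin.ext (by simp)))⟩
  | n + 1, c, hc, y, hy => by
    obtain ⟨c', hc', hl, hf⟩ := exists_lift_chain f (fun i => c i.succ)
      (fun i j hij => hc _ _ (Fin.succ_lt_succ_iff.2 hij)) y (hy.trans (by rw [Fin.succ_last]))
    have hmem : c 0 ∈ f '' closure ({c' 0} : Set Y) := by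
      have hcl : IsClosed (f '' closure ({c' 0} : Set Y)) := f.isClosedMap _ isClosed_closure
      exact (hc 0 _ (Fin.succ_pos 0)).1.mem_closed hcl ⟨c' 0, subset_closure rfl, hf 0⟩
    obtain ⟨z, hz, hzc⟩ := hmem
    refine ⟨Fin.cons z c', hc'.cons (specializes_iff_mem_closure.2 hz) ?_, ?_, fun i => ?_⟩
    · exact fun e => (hc 0 _ (Fin.succ_pos 0)).2 (hzc.symm.trans ((congrArg f e).trans (hf 0)))
    · rw [← Fin.succ_last, Fin.cons_succ]; exact hl
    · induction i using Fin.cases with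
      | zero => rw [Fin.cons_zero]; exact hzc
      | succ i => rw [Fin.cons_succ]; exact hf i

/-- The big open over which `f` is finite. -/
theorem noLong_finLocus [IsNoetherian Y] (f : Y ⟶ X) [IsProper f] {e : ℕ}
    (hX : topologicalKrullDim X ≤ (e + 1 : ℕ)) (hY : topologicalKrullDim Y ≤ (e + 1 : ℕ))
    (U : X.Opens) (hU' : Dense ((f ⁻¹ᵁ U : Y.Opens) : Set Y)) (hiso : IsIso (f ∣_ U))
    (V : X.Opens) (hV : ∀ y : X, ringKrullDim (X.presheaf.stalk y) ≤ 1 → y ∈ V) :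
    NoLong (V ⊓ finLocus f) e := by
  intro c hc hcc
  by_cases hV' : c (Fin.last e) ∈ V
  swap
  · obtain ⟨z₁, z₂, h₁, h₁', h₂, h₂'⟩ := exists_two_generisations fun h => hV' (hV _ h)
    refine not_isCh hX (show e + 1 < e + 2 by omega) _ ((IsCh.snoc hcc h₁ h₁').snoc (w := z₂) ?_ ?_)
    · rw [Fin.snoc_last]; exact h₂
    · rw [Fin.snoc_last]; exact h₂'
  have hZ : c (Fin.last e) ∈ f '' (f.quasiFiniteLocus : Set Y)ᶜ :=
    by_contra fun h => hc _ ⟨hV', h⟩
  obtain ⟨y, hy, hyc⟩ := hZ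
  obtain ⟨w, y₀, hw, hy₀, hs, hne⟩ : ∃ w y₀ : Y, f w = f y ∧ f y₀ = f y ∧ w ⤳ y₀ ∧ w ≠ y₀ := by
    by_contra hno
    exact hy (quasiFiniteAt_of_fibre f y fun w y' h1 h2 h3 => by_contra fun h4 => hno ⟨w, y', h1, h2, h3, h4⟩)
  obtain ⟨c', hc', hl, -⟩ := exists_lift_chain f c hcc y₀ (hy₀.trans hyc)
  have hch := IsCh.snoc hc' (w := w) (hl ▸ hs) (hl ▸ hne)
  have hwU : w ∈ f ⁻¹ᵁ U := by
    have h := mem_of_dense hY hch (f ⁻¹ᵁ U) hU'
    rwa [Fin.snoc_last] at h
  have hy₀U : y₀ ∈ f ⁻¹ᵁ U := by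
    show f y₀ ∈ U
    rw [hy₀, ← hw]
    exact hwU
  have hinj : Function.Injective (f ∣_ U) := (Scheme.homeoOfIso (asIso (f ∣_ U))).injective
  have hr : ∀ z : (f ⁻¹ᵁ U : Y.Opens), ((f ∣_ U) z).1 = f z.1 := fun z =>
    congrArg (fun g : (f ⁻¹ᵁ U).toScheme ⟶ X => g z) (morphismRestrict_ι f U)
  have key : (f ∣_ U) ⟨w, hwU⟩ = (f ∣_ U) ⟨y₀, hy₀U⟩ :=
    Subtype.ext ((hr ⟨w, hwU⟩).trans ((hw.trans hy₀.symm).trans (hr ⟨y₀, hy₀U⟩).symm))
  exact hne (congrArg Subtype.val (hinj key))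

end Groth.Agent.CohBig
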