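import Groth.Agent.CohBig.RVan

/-!
Chains through fibres of a proper morphism that is finite over a dense open, and the resulting range
in which the edge map is injective or surjective.
-/

set_option autoImplicit false
set_option backward.isDefEq.respectTransparency false
set_option backward.isDefEq.respectTransparency.types false
set_option linter.style.haveILetI false

universe u

open CategoryTheory CategoryTheory.Limits AlgebraicGeometry TopologicalSpace Opposite

noncomputable section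

namespace Groth.Agent.CohBig

variable {X Y : Scheme.{u}}

/-- Concatenation of chains. -/
theorem exists_concat {n : ℕ} (c : Fin (n + 1) → X) (hc : IsCh c) : ∀ {m : ℕ} (c₂ : Fin (m + 1) → X),
    IsCh c₂ → c (Fin.last n) = c₂ 0 →
      ∃ c₃ : Fin (n + m + 1) → X, IsCh c₃ ∧ c₃ (Fin.last (n + m)) = c₂ (Fin.last m)
  | 0, c₂, _, h => ⟨c, hc, h⟩
  | m + 1, c₂, hc₂, h => by
    obtain ⟨c₃, hc₃, hl⟩ := exists_concat c hc (fun i : Fin (m + 1) => c₂ i.castSucc)
      (fun i j hij => hc₂ _ _ (Fin.castSucc_lt_castSucc_iff.2 hij)) h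
    have h1 := hc₂ (Fin.last m).castSucc (Fin.last (m + 1)) (Fin.castSucc_lt_last _)
    exact ⟨Fin.snoc c₃ (c₂ (Fin.last (m + 1))), hc₃.snoc (hl ▸ h1.1) (hl ▸ h1.2.symm), Fin.snoc_last _ _⟩

/-- The top of a long chain has no proper generisation. -/
theorem eq_of_long {d : ℕ} (hd : topologicalKrullDim X ≤ d) {n : ℕ} (hn : d ≤ n) {c : Fin (n + 1) → X}
    (hc : IsCh c) {w : X} (hw : w ⤳ c (Fin.last n)) : w = c (Fin.last n) :=
  eq_of_specializes_last (d := n) (hd.trans (by exact_mod_cast hn)) hc hw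

/-- A point without proper generisations lies in every dense open. -/
theorem mem_of_dense_of_max [IsNoetherian X] {x : X} (hx : ∀ w, w ⤳ x → w = x) (D : X.Opens)
    (hD : Dense (D : Set X)) : x ∈ D := by
  obtain ⟨Z, hZf, -, hZ⟩ := CohBound.exists_max_points (X := X) (B := Set.univ) isClosed_univ
  have hA : IsClosed (⋃ w ∈ Z \ {x}, closure ({w} : Set X)) :=
    (hZf.subset Set.sdiff_subset).isClosed_biUnion fun _ _ => isClosed_closure
  have hx' : x ∈ (⋃ w ∈ Z \ {x}, closure ({w} : Set X))ᶜ := fun h => by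
    simp only [Set.mem_iUnion] at h
    obtain ⟨w, ⟨-, hwx⟩, hw⟩ := h
    exact hwx (hx w (specializes_iff_mem_closure.2 hw))
  obtain ⟨u, hu, huD⟩ := hD.inter_open_nonempty _ hA.isOpen_compl ⟨x, hx'⟩
  obtain ⟨w, hwZ, hw⟩ := hZ u (Set.mem_univ u)
  by_cases hwx : w = x
  · exact (hwx ▸ hw).mem_open D.2 huD
  · exact absurd (Set.mem_biUnion (show w ∈ Z \ {x} from ⟨hwZ, hwx⟩) hw.mem_closure) hu

/-- No specialisations in a fibre of a finite morphism. -/
theorem eq_of_finite (f : Y ⟶ X) (U : X.Opens) [IsFinite (f ∣_ U)] {w y : Y} (hy : f y ∈ U)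
    (hwy : f w = f y) (hs : w ⤳ y) : w = y := by
  have hw : f w ∈ U := hwy ▸ hy
  have hr : ∀ z : (f ⁻¹ᵁ U : Y.Opens), ((f ∣_ U) z).1 = f z.1 := fun z =>
    congrArg (fun g : (f ⁻¹ᵁ U).toScheme ⟶ X => g z) (morphismRestrict_ι f U)
  exact congrArg Subtype.val (eq_of_quasiFiniteAt (f ∣_ U) (w := ⟨w, hw⟩) (y := ⟨y, hy⟩)
    ((f ∣_ U).quasiFiniteAt _) (Subtype.ext ((hr ⟨w, hw⟩).trans (hwy.trans (hr ⟨y, hy⟩).symm)))
    ((subtype_specializes_iff _ _).2 hs))

section

variable [IsNoetherian Y] (f : Y ⟶ X) [IsProper f] (U : X.Opens) [IsFinite (f ∣_ U)]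
  (hU' : Dense ((f ⁻¹ᵁ U : Y.Opens) : Set Y)) {d : ℕ} (hY : topologicalKrullDim Y ≤ d)

include hU' hY in
/-- A chain below a point together with a chain in its fibre is short. -/
theorem no_chain_fibre {e k : ℕ} {c : Fin (e + 1) → X} (hc : IsCh c) (cf : Fin (k + 2) → Y) (hcf : IsCh cf)
    (hf : ∀ i, f (cf i) = c (Fin.last e)) : e + (k + 1) < d := by
  by_contra hlt
  obtain ⟨c', hc', hl, -⟩ := exists_lift_chain f c hc (cf 0) (hf 0)
  obtain ⟨c₃, hc₃, hl₃⟩ := exists_concat c' hc' cf hcf hl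
  have hmax : ∀ w, w ⤳ cf (Fin.last (k + 1)) → w = cf (Fin.last (k + 1)) := fun w hw =>
    hl₃ ▸ eq_of_long hY (not_lt.1 hlt) hc₃ (hl₃.symm ▸ hw)
  have hU1 : f (cf (Fin.last (k + 1))) ∈ U := mem_of_dense_of_max hmax (f ⁻¹ᵁ U) hU'
  have h := hcf 0 (Fin.last (k + 1)) (Fin.succ_pos (Fin.last k) |>.trans_eq rfl)
  exact h.2 (eq_of_finite f U (show f (cf 0) ∈ U by rw [hf]; rwa [hf] at hU1)
    ((hf _).trans (hf 0).symm) h.1).symm

include hU' hY in
/-- Bound on the dimension of the fibre over the top of a chain. -/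
theorem fibre_dim_le {e j : ℕ} {c : Fin (e + 1) → X} (hc : IsCh c) (he : d ≤ e + j + 1) :
    topologicalKrullDim ↥(f.fiber (c (Fin.last e))) ≤ j := by
  by_contra h
  obtain ⟨cf, hcf, hf⟩ := exists_chain_fibre f _ j h
  exact absurd (no_chain_fibre f U hU' hY hc cf hcf hf) (by omega)

include hU' hY in
/-- The locus over which the morphism is finite is big. -/
theorem noLong_finLocus' [IsNoetherian X] {e : ℕ} (he : d ≤ e + 1) : NoLong (finLocus f) e := by
  intro c hc hcc
  obtain ⟨y, hy, hyc⟩ : c (Fin.last e) ∈ f '' (f.quasiFiniteLocus : Set Y)ᶜ :=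
    by_contra fun h => hc _ h
  refine hy (quasiFiniteAt_of_fibre f y fun w y' h1 h2 h3 => by_contra fun hne => ?_)
  let cf : Fin (0 + 2) → Y := Fin.snoc (fun _ : Fin 1 => y') w
  have hcf : IsCh cf := IsCh.snoc (n := 0) (c := fun _ : Fin 1 => y') (fun i j hij => absurd hij (by omega)) h3 hne
  have hf : ∀ i, f (cf i) = c (Fin.last e) := fun i => by
    induction i using Fin.lastCases with
    | last => simp only [cf, Fin.snoc_last]; exact h1.trans hyc
    | cast i => simp only [cf, Fin.snoc_castSucc]; exact h2.trans hyc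
  exact absurd (no_chain_fibre f U hU' hY hcc cf hcf hf) (by omega)

end

/-- Sheaves with stalks zero on a big open are acyclic in high degrees. -/
theorem acyOff_of_noLong [IsNoetherian X] (O : X.Opens) {e : ℕ} (h : NoLong O e) (m : ℕ) (hm : e ≤ m) :
    AcyOff (X := X.toTopCat) O m := fun M hM => by
  refine FreeJ.subsingleton_H_of_support O hM m fun N => ?_
  haveI : NoetherianSpace (TopCat.of ((O : Set X)ᶜ : Set X)) := NoetherianSpace.set _
  refine FreeJ.vanishes e (TopCat.of ((O : Set X)ᶜ : Set X)) ?_ N m hm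
  show topologicalKrullDim ((O : Set X)ᶜ : Set X) < _
  by_contra hcon
  obtain ⟨c, hcm, hcc⟩ := Intersect.exists_chain_closed O.2.isClosed_compl (not_lt.1 hcon)
  exact h c hcm hcc

section

variable [IsNoetherian X] [IsNoetherian Y] [HasInjectiveResolutions Y.Modules] (f : Y ⟶ X) [IsProper f]
  (U : X.Opens) [IsFinite (f ∣_ U)] (hU' : Dense ((f ⁻¹ᵁ U : Y.Opens) : Set Y)) {d : ℕ}
  (hY : topologicalKrullDim Y ≤ d)

/-- A bound on the supports of the higher direct images gives the vanishing in the edge map. -/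
theorem lerayVan_of (N : Y.Modules) (hN : Coh.IsCoh N) (m : ℕ)
    (h : ∀ j, 1 ≤ j → j ≤ m → ∀ c : Fin (m - j + 1) → X, IsCh c →
      Subsingleton (((Coh.Rpush f j).obj N).presheaf.stalk (c (Fin.last (m - j))))) :
    LerayVan f.base (Coh.toAb N) m := fun j hj hjm => by
  have hR : Coh.IsCoh ((Coh.Rpush f j).obj N) := CohFinite.isCoh_rpush f N hN j
  let O : X.Opens := ⟨(CohB1.support ((Coh.Rpush f j).obj N))ᶜ, (QC.isClosed_support hR.2).isOpen_compl⟩
  refine ⟨O, fun x hx => killedAt_rpush f N x j (CurveRR.subsingleton_stalk hx),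
    acyOff_of_noLong O (fun c hc hcc => hc (Fin.last (m - j)) ?_) _ le_rfl⟩
  exact fun hsupp => hsupp (h j hj hjm c hcc)

include hU' hY in
/-- Vanishing passes from the direct image to the module. -/
theorem leray_surj (N : Y.Modules) (hN : Coh.IsCoh N) {i : ℕ} (hi : d ≤ i)
    (h : Subsingleton (Coh.HH X ((Scheme.Modules.pushforward f).obj N) i)) :
    Subsingleton (Coh.HH Y N i) := by
  refine @Function.Surjective.subsingleton _ _ _ h
    (edge_surjective f.base i (Coh.toAb N) (lerayVan_of f N hN i fun j hj hji c hc => ?_))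
  exact rpush_stalk_zero f _ (j - 1) (fibre_dim_le f U hU' hY hc (by omega)) hN.1 j (by omega)

include hU' hY in
/-- Vanishing passes to the direct image of a twist of a module without higher direct images. -/
theorem leray_inj {M : Y.Modules} (hM : Coh.IsCoh M)
    (hMt : ∀ j, 1 ≤ j → ∀ t, Subsingleton (((Coh.Rpush f j).obj M).presheaf.stalk t))
    {K : X.Modules} (hK : Coh.IsCoh K) {i : ℕ} (hi : d ≤ i)
    (h : Subsingleton (Coh.HH Y (CohB1.tensorMod M ((Scheme.Modules.pullback f).obj K)) i)) :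
    Subsingleton (Coh.HH X ((Scheme.Modules.pushforward f).obj
      (CohB1.tensorMod M ((Scheme.Modules.pullback f).obj K))) i) := by
  refine @Function.Injective.subsingleton _ _ _ (edge_injective f.base i
    (Coh.toAb (CohB1.tensorMod M ((Scheme.Modules.pullback f).obj K))) fun m hm =>
    lerayVan_of f _ (CurveRR.isCoh_tensor' hM (QC.isCoh_pullback f hK)) m fun j hj hjm c hc => ?_) h
  exact rpush_stalk_tensor f _ j (fibre_dim_le f U hU' hY hc (by omega)) hM (hMt j hj _) hK

end

end Groth.Agent.CohBig
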