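import Groth.Agent.CohBig.Small
import Groth.Agent.ModDesc.FamOps
import Groth.Agent.TMul.Assoc
import Groth.Agent.RefStalk.Coherent

/-!
Stalkwise criteria for maps of modules, and the projection map `P ⊗ f_*O ⟶ f_*f^*P`.
-/

set_option autoImplicit false
set_option backward.isDefEq.respectTransparency false
set_option linter.style.haveILetI false

universe u

open CategoryTheory CategoryTheory.Limits AlgebraicGeometry TopologicalSpace Opposite
open Groth.Agent.QC (res resO res_res app_res res_smul)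
open Groth.Agent.W7Hull (st st_germ)
open TMul (tm res_tm)

noncomputable section

namespace Groth.Agent.CohBig

variable {X Y : Scheme.{u}} {M N : X.Modules}

lemma germ_res' (M : X.Modules) {U W : X.Opens} (h : W ≤ U) {x : X} (hx : x ∈ W) (s : Γ(M, U)) :
    M.presheaf.germ W x hx (res M h s) = M.presheaf.germ U x (h hx) s :=
  TopCat.Presheaf.germ_res_apply M.presheaf _ x hx s

theorem st_surjective_of_app (φ : M ⟶ N) (O : X.Opens)
    (h : ∀ W : X.Opens, IsAffineOpen W → W ≤ O → Function.Surjective (φ.app W)) {x : X} (hx : x ∈ O) :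
    Function.Surjective (st φ x) := fun z => by
  obtain ⟨U, hU, t, rfl⟩ := TopCat.Presheaf.exists_germ_eq N.presheaf z
  obtain ⟨W, hW, hxW, hWU⟩ := exists_isAffineOpen_mem_and_subset (U := U ⊓ O) ⟨hU, hx⟩
  have hWU' : W ≤ U ⊓ O := hWU
  obtain ⟨s, hs⟩ := h W hW (hWU'.trans inf_le_right) (res N (hWU'.trans inf_le_left) t)
  exact ⟨M.presheaf.germ W x hxW s, by rw [st_germ, hs, germ_res']⟩

theorem st_injective_of_app (φ : M ⟶ N) (O : X.Opens)
    (h : ∀ W : X.Opens, W ≤ O → Function.Injective (φ.app W)) {x : X} (hx : x ∈ O) :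
    Function.Injective (st φ x) := by
  refine (injective_iff_map_eq_zero _).2 fun z hz => ?_
  obtain ⟨U, hU, s, rfl⟩ := TopCat.Presheaf.exists_germ_eq M.presheaf z
  rw [st_germ] at hz
  obtain ⟨W, hxW, i₁, _, e⟩ := TopCat.Presheaf.germ_eq N.presheaf x hU hU (φ.app U s) 0
    (hz.trans (map_zero _).symm)
  have e' : res N i₁.le (φ.app U s) = 0 := e.trans (map_zero _)
  have h0 : res M ((inf_le_left : W ⊓ O ≤ W).trans i₁.le) s = 0 :=
    h (W ⊓ O) inf_le_right (by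
      rw [map_zero, ← app_res, ← res_res N (inf_le_left : W ⊓ O ≤ W) i₁.le, e', map_zero])
  rw [← germ_res' M ((inf_le_left : W ⊓ O ≤ W).trans i₁.le) (show x ∈ W ⊓ O from ⟨hxW, hx⟩) s, h0, map_zero]

theorem bijective_app_of_isIso_restrict (φ : M ⟶ N) (O : X.Opens)
    [IsIso ((Scheme.Modules.restrictFunctor O.ι).map φ)] (W : X.Opens) (hW : W ≤ O) :
    Function.Bijective (φ.app W) := by
  have e : O.ι ''ᵁ (O.ι ⁻¹ᵁ W) = W := by
    rw [Scheme.Hom.image_preimage_eq_opensRange_inf, Scheme.Opens.opensRange_ι, inf_eq_right.2 hW]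
  rw [← e]
  exact ConcreteCategory.bijective_of_isIso
    (((Scheme.Modules.restrictFunctor O.ι).map φ).app (O.ι ⁻¹ᵁ W))

/-- The pushforward of a map bijective over `f⁻¹O` is bijective over `O`. -/
theorem push_bijective (f : Y ⟶ X) {M N : Y.Modules} (φ : M ⟶ N) (O : X.Opens)
    [IsIso ((Scheme.Modules.restrictFunctor (f ⁻¹ᵁ O).ι).map φ)] {x : X} (hx : x ∈ O) :
    Function.Bijective (st ((Scheme.Modules.pushforward f).map φ) x) :=
  ⟨st_injective_of_app _ O (fun W hW =>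
      (bijective_app_of_isIso_restrict φ (f ⁻¹ᵁ O) (f ⁻¹ᵁ W) (f.preimage_mono hW)).1) hx,
    st_surjective_of_app _ O (fun W _ hW =>
      (bijective_app_of_isIso_restrict φ (f ⁻¹ᵁ O) (f ⁻¹ᵁ W) (f.preimage_mono hW)).2) hx⟩

variable (f : Y ⟶ X) (P : X.Modules)

/-- `f_*O_Y` -/
abbrev pushO : X.Modules := (Scheme.Modules.pushforward f).obj (Coh.structureModule Y)

/-- `f_*f^*P` -/
abbrev pushPull : X.Modules :=
  (Scheme.Modules.pushforward f).obj ((Scheme.Modules.pullback f).obj P)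

def pmB (W : X.Opens) :
    Γ(P, W) →ₗ[Γ(X, W)] Γ(pushO f, W) →ₗ[Γ(X, W)] Γ(pushPull f P, W) :=
  LinearMap.mk₂ _
    (fun p b => (show Γ(pushPull f P, W) from
      (show Γ(Y, f ⁻¹ᵁ W) from b) • OmegaSh.pullSect f P W p))
    (fun p p' b => by
      show (show Γ(Y, f ⁻¹ᵁ W) from b) • OmegaSh.pullSect f P W (p + p') = _
      rw [map_add]
      exact smul_add _ _ _)
    (fun r p b => by
      show (show Γ(Y, f ⁻¹ᵁ W) from b) • OmegaSh.pullSect f P W (r • p) =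
        f.app W r • ((show Γ(Y, f ⁻¹ᵁ W) from b) • OmegaSh.pullSect f P W p)
      rw [OmegaSh.pullSect_smul]
      exact smul_comm _ _ _)
    (fun p b b' => add_smul (show Γ(Y, f ⁻¹ᵁ W) from b) (show Γ(Y, f ⁻¹ᵁ W) from b')
      (OmegaSh.pullSect f P W p))
    (fun r p b => mul_smul (f.app W r) (show Γ(Y, f ⁻¹ᵁ W) from b) (OmegaSh.pullSect f P W p))

lemma pmB_res {V W : X.Opens} (h : V ≤ W) (p : Γ(P, W)) (b : Γ(pushO f, W)) :
    res (pushPull f P) h (pmB f P W p b) = pmB f P V (res P h p) (res (pushO f) h b) :=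
  (res_smul ((Scheme.Modules.pullback f).obj P) (f.preimage_mono h) (show Γ(Y, f ⁻¹ᵁ W) from b) _).trans
    (congrArg (resO Y (f.preimage_mono h) (show Γ(Y, f ⁻¹ᵁ W) from b) • ·)
      (OmegaSh.pullSect_map f P h p).symm)

/-- The projection map. -/
def pm : CohB1.tensorMod P (pushO f) ⟶ pushPull f P :=
  TMul.lift (pmB f P) (pmB_res f P)

lemma pm_tm {W : X.Opens} (p : Γ(P, W)) (b : Γ(pushO f, W)) :
    (pm f P).app W (tm p b) = (show Γ(pushPull f P, W) from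
      (show Γ(Y, f ⁻¹ᵁ W) from b) • OmegaSh.pullSect f P W p) :=
  TMul.lift_tm (pmB f P) (pmB_res f P) p b

variable {P}

theorem pm_surjective (hP : Coh.IsQCoh P) (O : X.Opens) [IsAffineHom (f ∣_ O)] {x : X} (hx : x ∈ O) :
    Function.Surjective (st (pm f P) x) := by
  refine st_surjective_of_app _ O (fun W hW hWO => ?_) hx
  haveI := hP
  have hfW : IsAffineOpen (f ⁻¹ᵁ W) := by
    have h1 : IsAffineOpen (O.ι ⁻¹ᵁ W) := by
      rw [← O.ι.isAffineOpen_iff_of_isOpenImmersion, Scheme.Hom.image_preimage_eq_opensRange_inf,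
        Scheme.Opens.opensRange_ι, inf_eq_right.2 hWO]
      exact hW
    have h2 := (h1.preimage (f ∣_ O)).image_of_isOpenImmersion (f ⁻¹ᵁ O).ι
    rwa [show (f ∣_ O) ⁻¹ᵁ (O.ι ⁻¹ᵁ W) = (f ⁻¹ᵁ O).ι ⁻¹ᵁ (f ⁻¹ᵁ W) by
        rw [← Scheme.Hom.comp_preimage, morphismRestrict_ι, Scheme.Hom.comp_preimage],
      Scheme.Hom.image_preimage_eq_opensRange_inf, Scheme.Opens.opensRange_ι,
      inf_eq_right.2 (f.preimage_mono hWO)] at h2
  intro t
  have hspan := ModDesc.span_pullSectLE f P hW hfW le_rfl (S := Set.univ) Submodule.span_univ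
  obtain ⟨y, rfl⟩ : ∃ y : Γ((Scheme.Modules.pullback f).obj P, f ⁻¹ᵁ W),
      (show Γ(pushPull f P, W) from y) = t := ⟨t, rfl⟩
  suffices h : ∀ c : Γ(Y, f ⁻¹ᵁ W), ∃ s, (pm f P).app W s =
      (show Γ(pushPull f P, W) from c • y) by
    obtain ⟨s, hs⟩ := h 1
    exact ⟨s, hs.trans (one_smul Γ(Y, f ⁻¹ᵁ W) y)⟩
  have ht : y ∈
      Submodule.span Γ(Y, f ⁻¹ᵁ W) ((ModDesc.pullSectLE f P W (f ⁻¹ᵁ W) le_rfl) '' Set.univ) :=
    hspan ▸ Submodule.mem_top
  induction ht using Submodule.span_induction with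
  | mem z hz =>
    obtain ⟨p, -, rfl⟩ := hz
    intro c
    refine ⟨tm p (show Γ(pushO f, W) from c), ?_⟩
    rw [pm_tm, ModDesc.pullSectLE_apply, QC.res_self]
  | zero => exact fun c => ⟨0, by rw [map_zero, smul_zero]⟩
  | add a b _ _ ha hb =>
    intro c
    obtain ⟨s, hs⟩ := ha c
    obtain ⟨s', hs'⟩ := hb c
    exact ⟨s + s', by rw [map_add, hs, hs', smul_add]⟩
  | smul r a _ ha =>
    intro c
    obtain ⟨s, hs⟩ := ha (c * r)
    exact ⟨s, hs.trans (mul_smul c r a)⟩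

lemma app_bijective_of_isIso (U : X.Opens) [IsIso (f ∣_ U)] (W : X.Opens) (hW : W ≤ U) :
    Function.Bijective (f.app W) := by
  have e : U.ι ''ᵁ (U.ι ⁻¹ᵁ W) = W := by
    rw [Scheme.Hom.image_preimage_eq_opensRange_inf, Scheme.Opens.opensRange_ι, inf_eq_right.2 hW]
  rw [← e]
  haveI : IsIso ((f ∣_ U).app (U.ι ⁻¹ᵁ W)) := inferInstance
  have h2 : IsIso (f.app (U.ι ''ᵁ (U.ι ⁻¹ᵁ W)) ≫
      Y.presheaf.map (eqToHom (image_morphismRestrict_preimage f U (U.ι ⁻¹ᵁ W))).op) := by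
    rw [← morphismRestrict_app f U (U.ι ⁻¹ᵁ W)]
    exact this
  haveI := h2
  haveI := IsIso.of_isIso_comp_right (f.app (U.ι ''ᵁ (U.ι ⁻¹ᵁ W)))
    (Y.presheaf.map (eqToHom (image_morphismRestrict_preimage f U (U.ι ⁻¹ᵁ W))).op)
  exact ConcreteCategory.bijective_of_isIso _

theorem pullSect_bijective (hP : Coh.IsQCoh P) (U : X.Opens) [IsIso (f ∣_ U)] (W : X.Opens)
    (hW : IsAffineOpen W) (hWU : W ≤ U) :
    Function.Bijective (OmegaSh.pullSect f P W) := by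
  haveI := hP
  have hfW : IsAffineOpen (f ⁻¹ᵁ W) := by
    have h1 : IsAffineOpen (U.ι ⁻¹ᵁ W) := by
      rw [← U.ι.isAffineOpen_iff_of_isOpenImmersion, Scheme.Hom.image_preimage_eq_opensRange_inf,
        Scheme.Opens.opensRange_ι, inf_eq_right.2 hWU]
      exact hW
    have h2 := (h1.preimage (f ∣_ U)).image_of_isOpenImmersion (f ⁻¹ᵁ U).ι
    rwa [show (f ∣_ U) ⁻¹ᵁ (U.ι ⁻¹ᵁ W) = (f ⁻¹ᵁ U).ι ⁻¹ᵁ (f ⁻¹ᵁ W) by
        rw [← Scheme.Hom.comp_preimage, morphismRestrict_ι, Scheme.Hom.comp_preimage],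
      Scheme.Hom.image_preimage_eq_opensRange_inf, Scheme.Opens.opensRange_ι,
      inf_eq_right.2 (f.preimage_mono hWU)] at h2
  letI : Algebra Γ(X, W) Γ(Y, f ⁻¹ᵁ W) := (f.appLE W (f ⁻¹ᵁ W) le_rfl).hom.toAlgebra
  obtain ⟨Φ, hΦ⟩ := ModDesc.exists_bijective_liftBaseChange f P hW hfW le_rfl
  have hb : Function.Bijective (algebraMap Γ(X, W) Γ(Y, f ⁻¹ᵁ W)) := by
    show Function.Bijective (f.appLE W (f ⁻¹ᵁ W) le_rfl).hom
    rw [← Scheme.Hom.app_eq_appLE]
    exact app_bijective_of_isIso f U W hWU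
  let e : Γ(X, W) ≃ₗ[Γ(X, W)] Γ(Y, f ⁻¹ᵁ W) :=
    LinearEquiv.ofBijective (Algebra.linearMap Γ(X, W) Γ(Y, f ⁻¹ᵁ W)) hb
  have hk : ∀ p, OmegaSh.pullSect f P W p =
      Φ ((TensorProduct.congr e (LinearEquiv.refl _ Γ(P, W))) ((TensorProduct.lid Γ(X, W) Γ(P, W)).symm p)) := by
    intro p
    rw [TensorProduct.lid_symm_apply, TensorProduct.congr_tmul]
    refine Eq.trans ?_ (congrArg (fun c => Φ (TensorProduct.tmul Γ(X, W) c p)) (map_one (algebraMap Γ(X, W) Γ(Y, f ⁻¹ᵁ W))).symm)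
    rw [hΦ, ModDesc.pullSectLE_apply, QC.res_self]
  rw [show ⇑(OmegaSh.pullSect f P W) = _ from funext hk]
  exact Φ.bijective.comp ((TensorProduct.congr e _).bijective.comp (LinearEquiv.bijective _))

theorem pm_injective (hP : Coh.IsQCoh P) (U : X.Opens) [IsIso (f ∣_ U)] {x : X} (hx : x ∈ U) :
    Function.Injective (st (pm f P) x) := by
  refine (injective_iff_map_eq_zero _).2 fun z hz => ?_
  obtain ⟨W, hxW, s, rfl⟩ := TopCat.Presheaf.exists_germ_eq (CohB1.tensorMod P (pushO f)).presheaf z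
  obtain ⟨V, hV, q, hxV, hq⟩ := TMul.exists_tt s hxW
  have key : ∀ {V' : X.Opens}, V' ≤ U → ∀ q : TensorProduct Γ(X, V') Γ(P, V') Γ(pushO f, V'),
      ∃ p : Γ(P, V'), TMul.tt P (pushO f) V' q = tm p (show Γ(pushO f, V') from (1 : Γ(Y, f ⁻¹ᵁ V'))) := by
    intro V' hV' q
    induction q using TensorProduct.induction_on with
    | zero => exact ⟨0, by rw [map_zero, TMul.zero_tm]⟩
    | tmul p b =>
      obtain ⟨r, hr⟩ := (app_bijective_of_isIso f U V' hV').2 (show Γ(Y, f ⁻¹ᵁ V') from b)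
      refine ⟨r • p, ?_⟩
      rw [TMul.tt_tmul, TMul.smul_tm, ← TMul.tm_smul]
      refine congrArg (tm p) ?_
      show (show Γ(Y, f ⁻¹ᵁ V') from b) = f.app V' r * 1
      rw [mul_one, hr]
    | add a b ha hb =>
      obtain ⟨p, hp⟩ := ha
      obtain ⟨p', hp'⟩ := hb
      exact ⟨p + p', by rw [map_add, hp, hp', TMul.tm_add]⟩
  have hxVU : x ∈ V ⊓ U := ⟨hxV, hx⟩
  obtain ⟨p, hp⟩ := key (inf_le_right : V ⊓ U ≤ U) (TMul.resT P (pushO f) inf_le_left q)
  rw [← TMul.res_tt, hq, res_res] at hp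
  rw [← germ_res' _ ((inf_le_left : V ⊓ U ≤ V).trans hV) hxVU s, hp] at hz ⊢
  rw [st_germ] at hz
  obtain ⟨A, hxA, i₁, _, he⟩ := TopCat.Presheaf.germ_eq (pushPull f P).presheaf x hxVU hxVU _ 0
    (hz.trans (map_zero _).symm)
  have he' : res (pushPull f P) i₁.le ((pm f P).app _ (tm p (show Γ(pushO f, V ⊓ U) from (1 : Γ(Y, f ⁻¹ᵁ (V ⊓ U)))))) = 0 :=
    he.trans (map_zero _)
  obtain ⟨B, hB, hxB, hBA⟩ := exists_isAffineOpen_mem_and_subset (U := A) hxA
  have hBA' : B ≤ A := hBA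
  have h0 : res (pushPull f P) hBA' (res (pushPull f P) i₁.le
      ((pm f P).app _ (tm p (show Γ(pushO f, V ⊓ U) from (1 : Γ(Y, f ⁻¹ᵁ (V ⊓ U))))))) = 0 := by
    rw [he', map_zero]
  rw [res_res, app_res, res_tm, pm_tm] at h0
  have h1 : OmegaSh.pullSect f P B (res P (hBA'.trans i₁.le) p) = 0 := by
    refine Eq.trans ?_ h0
    refine ((congrArg (· • _) ?_).trans (one_smul _ _)).symm
    exact map_one (Y.presheaf.map (homOfLE (f.preimage_mono (hBA'.trans i₁.le))).op).hom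
  have h2 : res P (hBA'.trans i₁.le) p = 0 :=
    (pullSect_bijective f hP U B hB ((hBA'.trans i₁.le).trans inf_le_right)).1 (h1.trans (map_zero _).symm)
  rw [← germ_res' _ (hBA'.trans i₁.le) hxB, res_tm, h2, TMul.zero_tm, map_zero]

end Groth.Agent.CohBig
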