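import Groth.Agent.CohBig.Maps
import Groth.Agent.CohFinite.Tensor
import Groth.Agent.CohFinite.Ample

/-!
Evaluation `Hom(f_*O, O) ⊗ f_*O ⟶ O`, onto where `f` is an isomorphism.
-/

set_option autoImplicit false
set_option backward.isDefEq.respectTransparency false
set_option linter.style.haveILetI false

universe u

open CategoryTheory CategoryTheory.Limits AlgebraicGeometry TopologicalSpace Opposite
open Groth.Agent.QC (res resO res_res app_res res_smul)
open Groth.Agent.WeakAssLib (mgerm mgerm_smul mgerm_res)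
open Groth.Agent.W7Hull (st st_germ)
open TMul (tm res_tm)

noncomputable section

namespace Groth.Agent.CohBig

variable {X Y : Scheme.{u}}

section
variable {A B : X.Modules}

/-- the value of a section of the sheaf Hom -/
def evVal {W : X.Opens} (g : Γ(RefHull.homSh A B, W)) (s : Γ(A, W)) : Γ(B, W) :=
  (RefStalk.exists_app g le_rfl s).choose

lemma evVal_germ {W : X.Opens} (g : Γ(RefHull.homSh A B, W)) (s : Γ(A, W)) (y : X) (hy : y ∈ W) :
    mgerm B hy (evVal g s) = g.1 ⟨y, hy⟩ (mgerm A hy s) :=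
  (RefStalk.exists_app g le_rfl s).choose_spec y hy

variable (A B) in
def evB (W : X.Opens) : Γ(RefHull.homSh A B, W) →ₗ[Γ(X, W)] Γ(A, W) →ₗ[Γ(X, W)] Γ(B, W) :=
  LinearMap.mk₂ _ evVal
    (fun g g' s => RefStalk.germ_ext fun y hy => by
      rw [map_add, evVal_germ, evVal_germ, evVal_germ]; rfl)
    (fun r g s => RefStalk.germ_ext fun y hy => by
      rw [mgerm_smul, evVal_germ, evVal_germ]; rfl)
    (fun g s s' => RefStalk.germ_ext fun y hy => by
      simp only [map_add, evVal_germ])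
    (fun r g s => RefStalk.germ_ext fun y hy => by
      rw [mgerm_smul, evVal_germ, evVal_germ, mgerm_smul, map_smul])

lemma evB_res {V W : X.Opens} (h : V ≤ W) (g : Γ(RefHull.homSh A B, W)) (s : Γ(A, W)) :
    res B h (evB A B W g s) = evB A B V (res (RefHull.homSh A B) h g) (res A h s) :=
  RefStalk.germ_ext fun y hy => by
    show mgerm B hy (res B h (evVal g s)) = mgerm B hy (evVal (res (RefHull.homSh A B) h g) (res A h s))
    rw [mgerm_res, evVal_germ, evVal_germ, mgerm_res]
    rfl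

variable (A B) in
/-- evaluation -/
def ev : CohB1.tensorMod (RefHull.homSh A B) A ⟶ B := TMul.lift (evB A B) evB_res

lemma ev_tm {W : X.Opens} (g : Γ(RefHull.homSh A B, W)) (s : Γ(A, W)) :
    (ev A B).app W (tm g s) = evVal g s :=
  TMul.lift_tm (evB A B) evB_res g s

/-- Surjectivity on a stalk survives tensoring. -/
theorem tmap_surjective (φ : A ⟶ B) (L : X.Modules) {x : X} (h : Function.Surjective (st φ x)) :
    Function.Surjective (st (CohFinite.tmap φ L) x) := fun z => by
  obtain ⟨W, hxW, s, rfl⟩ := TopCat.Presheaf.exists_germ_eq (CohB1.tensorMod B L).presheaf z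
  obtain ⟨V, hV, q, hxV, hq⟩ := TMul.exists_tt s hxW
  suffices key : ∀ q : TensorProduct Γ(X, V) Γ(B, V) Γ(L, V),
      ∃ w, st (CohFinite.tmap φ L) x w =
        (CohB1.tensorMod B L).presheaf.germ V x hxV (TMul.tt B L V q) by
    obtain ⟨w, hw⟩ := key q
    exact ⟨w, by rw [hw, hq, germ_res']⟩
  intro q
  induction q using TensorProduct.induction_on with
  | zero => exact ⟨0, by rw [map_zero, map_zero, map_zero]⟩
  | tmul b l =>
    obtain ⟨a, ha⟩ := h (B.presheaf.germ V x hxV b)
    obtain ⟨O, hO, m, rfl⟩ := TopCat.Presheaf.exists_germ_eq A.presheaf a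
    rw [st_germ] at ha
    obtain ⟨O', hxO', i₁, i₂, e⟩ := TopCat.Presheaf.germ_eq B.presheaf x hO hxV _ _ ha
    have e' : res B i₁.le (φ.app O m) = res B i₂.le b := e
    refine ⟨(CohB1.tensorMod A L).presheaf.germ O' x hxO' (tm (res A i₁.le m) (res L i₂.le l)), ?_⟩
    rw [st_germ, CohFinite.tmap_tm, ← app_res, e', TMul.tt_tmul, ← res_tm, germ_res']
  | add a b ha hb =>
    obtain ⟨w, hw⟩ := ha
    obtain ⟨w', hw'⟩ := hb
    exact ⟨w + w', by rw [map_add, map_add, hw, hw', map_add]⟩

end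

/-- Evaluation on `f_*O` is onto where `f` is an isomorphism. -/
theorem ev_surjective (f : Y ⟶ X) (hA : Coh.IsQCoh (pushO f)) (U : X.Opens) [IsIso (f ∣_ U)] {x : X}
    (hx : x ∈ U) :
    Function.Surjective (st (ev (pushO f) (Coh.structureModule X)) x) := by
  refine st_surjective_of_app _ U (fun W hW hWU t => ?_) hx
  have hb := app_bijective_of_isIso f U W hWU
  let e : Γ(X, W) ≃+* Γ(Y, f ⁻¹ᵁ W) := RingEquiv.ofBijective (f.app W).hom hb
  let ψ : Γ(pushO f, W) →+ Γ(Coh.structureModule X, W) :=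
    { toFun := fun b => (show Γ(Coh.structureModule X, W) from
        (e.symm (show Γ(Y, f ⁻¹ᵁ W) from b) * (show Γ(X, W) from t)))
      map_zero' := by
        show e.symm 0 * (show Γ(X, W) from t) = 0
        rw [map_zero, zero_mul]
      map_add' := fun b b' => by
        show e.symm ((show Γ(Y, f ⁻¹ᵁ W) from b) + (show Γ(Y, f ⁻¹ᵁ W) from b')) * (show Γ(X, W) from t) = _
        rw [map_add, add_mul]
         }
  obtain ⟨g, hg⟩ := RefStalk.exists_section_of_linear hW hA le_rfl ψ fun r b => by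
    show e.symm (f.app W r * (show Γ(Y, f ⁻¹ᵁ W) from b)) * (show Γ(X, W) from t) =
      resO X le_rfl r * (e.symm (show Γ(Y, f ⁻¹ᵁ W) from b) * (show Γ(X, W) from t))
    rw [map_mul, QC.resO_self, show e.symm (f.app W r) = r from e.symm_apply_apply r, mul_assoc]
  refine ⟨tm g (show Γ(pushO f, W) from (1 : Γ(Y, f ⁻¹ᵁ W))), ?_⟩
  rw [ev_tm]
  refine RefStalk.germ_ext fun y hy => ?_
  rw [evVal_germ, hg y hy]
  refine congrArg _ ?_
  show e.symm 1 * (show Γ(X, W) from t) = t
  rw [map_one, one_mul]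

/-- `((H ⊗ G) ⊗ P) ⊗ A ≅ (H ⊗ A) ⊗ (G ⊗ P)` -/
def shuffle (H G P A : X.Modules) :
    CohB1.tensorMod (CohB1.tensorMod (CohB1.tensorMod H G) P) A ≅
      CohB1.tensorMod (CohB1.tensorMod H A) (CohB1.tensorMod G P) :=
  PicGrp.tensorModIso (TMul.assocIso H G P) (Iso.refl A) ≪≫ TMul.assocIso H _ A ≪≫
    PicGrp.tensorModIso (Iso.refl H) (TMul.commIso _ _) ≪≫ (TMul.assocIso H A _).symm

end Groth.Agent.CohBig
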