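import Groth.Agent.CohBig.Leray
import Groth.Agent.CohBig.Chains
import Groth.Agent.CohBig.Eval
import Groth.Agent.DQCoh.Tensor
import Groth.Agent.FibVan.Stalk
import Groth.Agent.CohFinite.RPushCoh
import Groth.Agent.CohFinite.Tensor
import Groth.Agent.CohQC.QuasiAffine
import Groth.Agent.CurveRR.TmapR
import Groth.Agent.TMul.Pullback

/-!
Stalks of higher direct images: vanishing above the fibre dimension, and right exactness in that
degree.
-/

set_option autoImplicit false
set_option backward.isDefEq.respectTransparency false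
set_option backward.isDefEq.respectTransparency.types false
set_option linter.style.haveILetI false
set_option maxHeartbeats 800000

universe u

open CategoryTheory CategoryTheory.Limits AlgebraicGeometry TopologicalSpace Opposite

noncomputable section

namespace Groth.Agent.CohBig

variable {X Y : Scheme.{u}}

/-- A fibre of dimension more than `j` contains a chain of length `j + 1`. -/
theorem exists_chain_fibre (f : Y ⟶ X) (t : X) (j : ℕ) (h : ¬ topologicalKrullDim ↥(f.fiber t) ≤ j) :
    ∃ c : Fin (j + 2) → Y, IsCh c ∧ ∀ i, f (c i) = t := by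
  have h' : ((j + 1 : ℕ) : WithBot ℕ∞) ≤ topologicalKrullDim ↥(f.fiber t) := by
    rw [not_le] at h
    generalize topologicalKrullDim ↥(f.fiber t) = D at h ⊢
    induction D using WithBot.recBotCoe with
    | bot => exact absurd h not_lt_bot
    | coe a =>
      have h2 : (j : ℕ∞) < a := WithBot.coe_lt_coe.1 h
      exact WithBot.coe_le_coe.2 (ENat.add_one_le_iff (ENat.natCast_ne_top j) |>.2 h2)
  obtain ⟨c, hc⟩ := Intersect.exists_chain h'
  refine ⟨fun i => f.fiberι t (c i), fun i k hik =>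
    ⟨(hc i k hik).1.map (f.fiberι t).continuous, fun e => (hc i k hik).2 ((f.fiberι t).isEmbedding.injective e)⟩,
    fun i => ?_⟩
  have : f.fiberι t (c i) ∈ Set.range (f.fiberι t) := ⟨_, rfl⟩
  rwa [f.range_fiberι t] at this

/-- Vanishing stalks of higher direct images kill classes nearby. -/
theorem killedAt_rpush [HasInjectiveResolutions Y.Modules] (f : Y ⟶ X) (N : Y.Modules) (x : X) (j : ℕ)
    (h : Subsingleton (((Coh.Rpush f j).obj N).presheaf.stalk x)) :
    KilledAt f.base x (Coh.toAb N) j := by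
  refine killedAt_of_stalk f.base x _ j ?_
  obtain ⟨e⟩ := CohQC.toAb_rpush_iso f N j
  let e' : Coh.toAb ((Coh.Rpush f j).obj N) ≅
      (presheafToSheaf (Opens.grothendieckTopology X) AddCommGrpCat.{u}).obj
        ((Opens.map f.base).op ⋙ SiteCoh.hPre (Coh.toAb N) j) :=
    e ≪≫ SiteCoh.rpushIso (J := Opens.grothendieckTopology Y) (K := Opens.grothendieckTopology X)
      (Opens.map f.base) (Coh.toAb N) j
  exact @Equiv.subsingleton _ _ (((TopCat.Presheaf.stalkFunctor AddCommGrpCat.{u} x).mapIso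
    ((sheafToPresheaf _ _).mapIso e')).addCommGroupIsoToAddEquiv).symm.toEquiv h

/-- No higher direct images above the fibre dimension. -/
theorem rpush_stalk_zero [HasInjectiveResolutions Y.Modules] (f : Y ⟶ X) [IsProper f] (x : X) (j : ℕ)
    (hd : topologicalKrullDim ↥(f.fiber x) ≤ j) {N : Y.Modules} (hN : Coh.IsQCoh N) (i : ℕ) (hi : j < i) :
    Subsingleton (((Coh.Rpush f i).obj N).presheaf.stalk x) := by
  haveI := hN
  obtain ⟨e⟩ := CohQC.toAb_rpush_iso f N i
  exact @Equiv.subsingleton _ _ (((TopCat.Presheaf.stalkFunctor AddCommGrpCat.{u} x).mapIso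
    ((sheafToPresheaf _ _).mapIso e)).addCommGroupIsoToAddEquiv).toEquiv
      (AddCommGrpCat.subsingleton_of_isZero (FibVan.isZero_stalk_rpushAb f x j hd N i hi))

lemma epi_tmap {A B : X.Modules} (φ : A ⟶ B) [Epi φ] (L : X.Modules) : Epi (CohFinite.tmap φ L) := by
  refine W7Hull.epi_of_stalk fun x => tmap_surjective φ L ?_
  exact (ModuleCat.epi_iff_surjective _).1 (Functor.map_epi (DerSch.stalkFunctor X x) φ)

lemma transfer_epi {A B : X.Modules} (φ : A ⟶ B) [Epi φ] (j : ℕ)
    (hK : ∀ M : X.Modules, Coh.IsQCoh M → Subsingleton (Coh.HH X M (j + 1)))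
    (hA : Coh.IsQCoh A) (hB : Coh.IsQCoh B)
    (h : Subsingleton (Coh.HH X A j)) : Subsingleton (Coh.HH X B j) := by
  have hS : (ShortComplex.mk (kernel.ι φ) φ (kernel.condition φ)).ShortExact :=
    { exact := ShortComplex.exact_of_f_is_kernel _ (kernelIsKernel φ) }
  exact subsingleton_right hS j (hK _ (QC.isQCoh_kernel hA hB φ)) h

/-- In the degree of the fibre dimension, vanishing passes to tensor products with pullbacks. -/
theorem rpush_stalk_tensor [HasInjectiveResolutions Y.Modules] [IsLocallyNoetherian X] (f : Y ⟶ X) [IsProper f]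
    (t : X) (j : ℕ) (hd : topologicalKrullDim ↥(f.fiber t) ≤ j)
    {M : Y.Modules} (hM : Coh.IsCoh M) (hMt : Subsingleton (((Coh.Rpush f j).obj M).presheaf.stalk t))
    {K : X.Modules} (hK : Coh.IsCoh K) :
    Subsingleton (((Coh.Rpush f j).obj (CohB1.tensorMod M ((Scheme.Modules.pullback f).obj K))).presheaf.stalk t) := by
  let σ := X.fromSpecStalk t
  let X₁ := pullback f σ
  letI : X₁.Over (Spec (CommRingCat.of (X.presheaf.stalk t))) := ⟨pullback.snd f σ⟩
  let g : X₁ ⟶ Y := pullback.fst f σ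
  let q : X₁ ⟶ Spec (X.presheaf.stalk t) := pullback.snd f σ
  have hsq : IsPullback g (X₁ ↘ Spec (CommRingCat.of (X.presheaf.stalk t))) f σ :=
    IsPullback.of_hasPullback f σ
  haveI : IsProper (X₁ ↘ Spec (CommRingCat.of (X.presheaf.stalk t))) :=
    MorphismProperty.of_isPullback (P := @IsProper) hsq inferInstance
  have hfK : Coh.IsQCoh ((Scheme.Modules.pullback f).obj K) := QC.isQCoh_pullback f hK.1
  have hMK : Coh.IsQCoh (CohB1.tensorMod M ((Scheme.Modules.pullback f).obj K)) :=
    DQCoh.isQCoh_tensor hM.1 hfK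
  obtain ⟨e⟩ := W7Rees.nonempty_stalk_hh f _ hMK t j X₁ g hsq
  suffices h : Subsingleton (Coh.HH X₁ ((Scheme.Modules.pullback g).obj
      (CohB1.tensorMod M ((Scheme.Modules.pullback f).obj K))) j) from e.toEquiv.subsingleton
  have hvan : ∀ N : X₁.Modules, Coh.IsQCoh N → Subsingleton (Coh.HH X₁ N (j + 1)) := fun N hN => by
    haveI : N.IsQuasicoherent := hN
    refine FibVan.subsingleton_hh (B := X.presheaf.stalk t) (X := X₁) j ?_ N (j + 1) (Nat.lt_succ_self j)
    refine le_of_eq_of_le ?_ hd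
    rw [DimField.dim_fiber_eq_of_isPullback hsq]
    exact congrArg (fun z => topologicalKrullDim ↥(f.fiber z)) Scheme.fromSpecStalk_closedPoint
  let Mg := (Scheme.Modules.pullback g).obj M
  have hMg : Coh.IsQCoh Mg := QC.isQCoh_pullback g hM.1
  let K₀ := (Scheme.Modules.pullback σ).obj K
  have hK₀ : Coh.IsCoh K₀ := QC.isCoh_pullback σ hK
  let T : (Spec (X.presheaf.stalk t)).Modules → X₁.Modules := fun A =>
    CohB1.tensorMod ((Scheme.Modules.pullback q).obj A) Mg
  have hiso : Nonempty (T K₀ ≅ (Scheme.Modules.pullback g).obj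
      (CohB1.tensorMod M ((Scheme.Modules.pullback f).obj K))) := by
    obtain ⟨a⟩ := TMul.nonempty_pullTensorIso g M ((Scheme.Modules.pullback f).obj K)
    exact ⟨TMul.commIso _ _ ≪≫ PicGrp.tensorModIso (Iso.refl Mg)
      ((Scheme.Modules.pullbackComp q σ).app K ≪≫
        (Scheme.Modules.pullbackCongr (pullback.condition (f := f) (g := σ)).symm).app K ≪≫
        ((Scheme.Modules.pullbackComp g f).app K).symm) ≪≫ a⟩
  obtain ⟨hiso⟩ := hiso
  have hTq : ∀ A : (Spec (X.presheaf.stalk t)).Modules, Coh.IsQCoh A → Coh.IsQCoh (T A) := fun A hA =>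
    DQCoh.isQCoh_tensor (QC.isQCoh_pullback q hA) hMg
  have hO : Subsingleton (Coh.HH X₁ (T (Coh.structureModule _)) j) := by
    obtain ⟨eM⟩ := W7Rees.nonempty_stalk_hh f M hM.1 t j X₁ g hsq
    refine CohQC.hh_subsingleton_of_iso
      ((TMul.leftUnitIso Mg).symm ≪≫ PicGrp.tensorModIso (PicLoc.pullbackStructureIso q).symm (Iso.refl Mg))
      j eM.symm.toEquiv.subsingleton
  have hbi : ∀ A B, Subsingleton (Coh.HH X₁ (T A) j) → Subsingleton (Coh.HH X₁ (T B) j) →
      Subsingleton (Coh.HH X₁ (T (A ⊞ B)) j) := fun A B hA hB => by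
    let P := Scheme.Modules.pullback q
    let F : ∀ {A B : (Spec (X.presheaf.stalk t)).Modules}, (A ⟶ B) → (T A ⟶ T B) := fun φ =>
      CohFinite.tmap (P.map φ) Mg
    have hc : ∀ {A B C : (Spec (X.presheaf.stalk t)).Modules} (a : A ⟶ B) (b : B ⟶ C), F a ≫ F b = F (a ≫ b) :=
      fun a b => by
        show CohFinite.tmap _ _ ≫ CohFinite.tmap _ _ = CohFinite.tmap _ _
        rw [← CohFinite.tmap_comp, Functor.map_comp]
    have hi : ∀ A, F (𝟙 A) = 𝟙 (T A) := fun A => by
      show CohFinite.tmap _ _ = _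
      rw [CategoryTheory.Functor.map_id, CohFinite.tmap_id]
    have h0 : ∀ {A B : (Spec (X.presheaf.stalk t)).Modules}, F (0 : A ⟶ B) = 0 := fun {A B} => by
      show CohFinite.tmap _ _ = _
      rw [Functor.map_zero, CohFinite.tmap_zero]
    have hz : F (biprod.inl : A ⟶ A ⊞ B) ≫ F (biprod.snd : A ⊞ B ⟶ B) = 0 := by rw [hc, biprod.inl_snd, h0]
    have sp : (ShortComplex.mk (F (biprod.inl : A ⟶ A ⊞ B)) (F biprod.snd) hz).Splitting :=
      { r := F biprod.fst
        s := F biprod.inr
        f_r := (hc _ _).trans ((congrArg (fun a => F a) biprod.inl_fst).trans (hi A))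
        s_g := (hc _ _).trans ((congrArg (fun a => F a) biprod.inr_snd).trans (hi B))
        id := by
          show F biprod.fst ≫ F biprod.inl + F biprod.snd ≫ F biprod.inr = 𝟙 (T (A ⊞ B))
          refine (congrArg₂ (· + ·) (hc _ _) (hc _ _)).trans ?_
          show CohFinite.tmap _ _ + CohFinite.tmap _ _ = _
          rw [← CohFinite.tmap_add, ← Functor.map_add, biprod.total, CategoryTheory.Functor.map_id,
            CohFinite.tmap_id] }
    exact CohQC.subsingleton_hh_middle sp.shortExact j hA hB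
  obtain ⟨n, v, hv⟩ : ∃ (n : ℕ) (v : Fin n → Γ(K₀, ⊤)), Submodule.span Γ(Spec (X.presheaf.stalk t), ⊤) (Set.range v) = ⊤ := by
    haveI := hK₀.1
    haveI := QC.finite_sections (M := K₀) (isAffineOpen_top (Spec (X.presheaf.stalk t))) hK₀.2
    exact Module.Finite.exists_fin
  let G := CohQC.comboTo K₀ (List.ofFn v)
  have hG : ∀ l : List Γ(K₀, ⊤), Subsingleton (Coh.HH X₁ (T (CohQC.comboTo K₀ l).1) j) ∧
      Coh.IsQCoh (CohQC.comboTo K₀ l).1 := by
    intro l
    induction l with
    | nil => exact ⟨hO, QC.isQCoh_unit _⟩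
    | cons a l ih => exact ⟨hbi _ _ hO ih.1, CohQC.isQCoh_biprod (QC.isQCoh_unit _) ih.2⟩
  haveI hepi : Epi G.2 := by
    refine CohQC.epi_of_surjective_cover (fun _ : PUnit.{u + 1} => (1 : Γ(Spec (X.presheaf.stalk t), ⊤)))
      (fun _ => by rw [Scheme.basicOpen_of_isUnit _ isUnit_one]; exact isAffineOpen_top _)
      (fun x => ⟨PUnit.unit, by rw [Scheme.basicOpen_of_isUnit _ isUnit_one]; trivial⟩)
      (hG _).2 hK₀.1 G.2 fun i => ?_
    rw [Scheme.basicOpen_of_isUnit _ isUnit_one]
    intro k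
    have hk : k ∈ Submodule.span Γ(Spec (X.presheaf.stalk t), ⊤) (Set.range v) := hv ▸ Submodule.mem_top
    refine (Submodule.span_le (p := LinearMap.range (QC.appₗ G.2 ⊤))).2 ?_ hk
    rintro _ ⟨a, rfl⟩
    have := CohQC.comboTo_mem_range K₀ (List.ofFn v) (v a) (List.mem_ofFn.2 ⟨a, rfl⟩) ⊤
    rwa [QC.res_self] at this
  haveI : Epi ((Scheme.Modules.pullback q).map G.2) := inferInstance
  haveI := epi_tmap ((Scheme.Modules.pullback q).map G.2) Mg
  exact CohQC.hh_subsingleton_of_iso hiso j (transfer_epi (CohFinite.tmap ((Scheme.Modules.pullback q).map G.2) Mg) j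
    hvan (hTq _ (hG _).2) (hTq _ hK₀.1) (hG _).1)

end Groth.Agent.CohBig
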