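import Groth.Agent.CohQC.QuasiAffine
import Groth.Agent.FreeJ.Grothendieck
import Groth.Agent.W7Hull.Sub
import Groth.Agent.Intersect.Pos

/-!
Transferring the vanishing of the cohomology of modules along maps that are bijective
outside closed sets of small dimension.
-/

set_option autoImplicit false
set_option backward.isDefEq.respectTransparency false
set_option backward.isDefEq.respectTransparency.types false
set_option linter.style.haveILetI false

universe u

open CategoryTheory CategoryTheory.Limits AlgebraicGeometry TopologicalSpace Opposite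
open Groth.Agent.SiteCoh Groth.Agent.W7Hull

noncomputable section

namespace Groth.Agent.CohBig

variable {X : Scheme.{u}}

/-- The complement of `U` has no chain of specialisations of length `e`. -/
def NoLong (U : X.Opens) (e : ℕ) : Prop :=
  ∀ c : Fin (e + 1) → X, (∀ i, c i ∉ U) → ¬ ∀ i j, i < j → c j ⤳ c i ∧ c i ≠ c j

theorem NoLong.mono {U : X.Opens} {e e' : ℕ} (h : NoLong U e) (he : e ≤ e') : NoLong U e' :=
  fun c hc hcc => h (fun i => c (Fin.castLE (by omega) i)) (fun _ => hc _)
    fun i j hij => hcc _ _ (Fin.strictMono_castLE _ hij)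

/-- Sheaves with vanishing stalks on `U` have no cohomology from `e` on. -/
theorem subsingleton_of_stalks [IsNoetherian X] (M : X.Modules) (U : X.Opens) {e : ℕ} (hU : NoLong U e)
    (hM : ∀ x ∈ U, Subsingleton (M.presheaf.stalk x)) (i : ℕ) (hi : e ≤ i) :
    Subsingleton (Coh.HH X M i) := by
  refine FreeJ.subsingleton_H_of_support (G := Coh.toAb M) U (fun x hx => hM x hx) i fun N => ?_
  haveI : NoetherianSpace (TopCat.of ((U : Set X)ᶜ : Set X)) := NoetherianSpace.set _
  refine FreeJ.vanishes e (TopCat.of ((U : Set X)ᶜ : Set X)) ?_ N i hi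
  show topologicalKrullDim ((U : Set X)ᶜ : Set X) < _
  by_contra hcon
  obtain ⟨c, hcm, hcc⟩ := Intersect.exists_chain_closed U.2.isClosed_compl (not_lt.1 hcon)
  exact hU c hcm hcc

lemma subsingleton_right {S : ShortComplex X.Modules} (hS : S.ShortExact) (p : ℕ)
    (hA : Subsingleton (Coh.HH X S.X₁ (p + 1))) (hB : Subsingleton (Coh.HH X S.X₂ p)) :
    Subsingleton (Coh.HH X S.X₃ p) := by
  refine subsingleton_of_forall_eq 0 fun x => ?_
  obtain ⟨y, hy⟩ := Abelian.Ext.covariant_sequence_exact₃ (constZ (Opens.grothendieckTopology X))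
    (CohQC.seq_shortExact hS) x rfl (@Subsingleton.elim _ hA _ _)
  rw [← hy, @Subsingleton.elim _ hB y 0, Abelian.Ext.zero_comp]

lemma subsingleton_left {S : ShortComplex X.Modules} (hS : S.ShortExact) (p : ℕ)
    (hB : Subsingleton (Coh.HH X S.X₂ (p + 1))) (hC : Subsingleton (Coh.HH X S.X₃ p)) :
    Subsingleton (Coh.HH X S.X₁ (p + 1)) := by
  refine subsingleton_of_forall_eq 0 fun x => ?_
  obtain ⟨y, hy⟩ := Abelian.Ext.covariant_sequence_exact₁ (constZ (Opens.grothendieckTopology X))
    (CohQC.seq_shortExact hS) x (@Subsingleton.elim _ hB _ _) rfl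
  rw [← hy, @Subsingleton.elim _ hC y 0, Abelian.Ext.zero_comp]

variable {M N : X.Modules}

lemma imSeq_shortExact (φ : M ⟶ N) :
    (ShortComplex.mk (kernel.ι φ) (Abelian.factorThruImage φ)
      (by rw [← cancel_mono (Abelian.image.ι φ), Category.assoc, Abelian.image.fac, kernel.condition,
        zero_comp])).ShortExact where
  exact := ShortComplex.exact_of_f_is_kernel _ (KernelFork.IsLimit.ofι (kernel.ι φ) _
    (fun {_} g hg => kernel.lift φ g (by rw [← Abelian.image.fac φ, ← Category.assoc, hg, zero_comp]))
    (fun {_} g hg => kernel.lift_ι _ _ _)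
    (fun {_} g hg m hm => (cancel_mono (kernel.ι φ)).1 (by rw [hm, kernel.lift_ι])))

lemma cokSeq_shortExact (φ : M ⟶ N) :
    (ShortComplex.mk (Abelian.image.ι φ) (cokernel.π φ) (kernel.condition _)).ShortExact where
  exact := ShortComplex.exact_of_f_is_kernel _ (kernelIsKernel _)

/-- stalks of the kernel vanish where the map is injective -/
lemma subsingleton_kernel (φ : M ⟶ N) {x : X} (h : Function.Injective (st φ x)) :
    Subsingleton ((kernel φ).presheaf.stalk x) :=
  subsingleton_of_forall_eq 0 fun z => st_injective (kernel.ι φ) x (h (by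
    rw [← st_comp, kernel.condition, st_zero, map_zero, map_zero]))

/-- stalks of the cokernel vanish where the map is surjective -/
lemma subsingleton_cokernel (φ : M ⟶ N) {x : X} (h : Function.Surjective (st φ x)) :
    Subsingleton ((cokernel φ).presheaf.stalk x) :=
  subsingleton_of_forall_eq 0 fun z => by
    obtain ⟨y, rfl⟩ := (ModuleCat.epi_iff_surjective _).1
      (Functor.map_epi (DerSch.stalkFunctor X x) (cokernel.π φ)) z
    obtain ⟨w, rfl⟩ := h y
    exact ((st_comp φ (cokernel.π φ) x w).symm.trans (by rw [cokernel.condition, st_zero]))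

/-- Vanishing passes to the target of a map surjective outside a small closed set. -/
theorem transfer_surj [IsNoetherian X] (φ : M ⟶ N) (U : X.Opens) {d : ℕ} (hU : NoLong U d)
    (hX : NoLong (⊥ : X.Opens) (d + 1))
    (hφ : ∀ x ∈ U, Function.Surjective (st φ x)) {i : ℕ} (hi : d ≤ i)
    (hM : Subsingleton (Coh.HH X M i)) : Subsingleton (Coh.HH X N i) := by
  have hK : Subsingleton (Coh.HH X (kernel φ) (i + 1)) :=
    subsingleton_of_stalks _ _ hX (fun x hx => absurd hx (by simp)) _ (by omega)
  have hI : Subsingleton (Coh.HH X (Abelian.image φ) i) :=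
    subsingleton_right (imSeq_shortExact φ) i hK hM
  exact CohQC.subsingleton_hh_middle (cokSeq_shortExact φ) i hI
    (subsingleton_of_stalks _ U hU (fun x hx => subsingleton_cokernel φ (hφ x hx)) _ hi)

/-- Vanishing passes to the source of a map injective outside a small closed set and surjective
outside a smaller one. -/
theorem transfer_inj [IsNoetherian X] (φ : M ⟶ N) (U O : X.Opens) {e : ℕ} (hU : NoLong U (e + 1))
    (hO : NoLong O e) (hinj : ∀ x ∈ U, Function.Injective (st φ x))
    (hsurj : ∀ x ∈ O, Function.Surjective (st φ x)) {i : ℕ} (hi : e + 1 ≤ i)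
    (hN : Subsingleton (Coh.HH X N i)) : Subsingleton (Coh.HH X M i) := by
  obtain ⟨j, rfl⟩ : ∃ j, i = j + 1 := ⟨i - 1, by omega⟩
  have hI : Subsingleton (Coh.HH X (Abelian.image φ) (j + 1)) :=
    subsingleton_left (cokSeq_shortExact φ) j hN
      (subsingleton_of_stalks _ O hO (fun x hx => subsingleton_cokernel φ (hsurj x hx)) _ (by omega))
  exact CohQC.subsingleton_hh_middle (imSeq_shortExact φ) (j + 1)
    (subsingleton_of_stalks _ U hU (fun x hx => subsingleton_kernel φ (hinj x hx)) _ hi) hI

end Groth.Agent.CohBig
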