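import Groth.Agent.CohBig.FinSurj
import Groth.Agent.CohFinite.Proper
import Groth.Agent.Chow.Cover

/-!
Coherent modules without higher direct images that are nonzero at the top points.
-/

set_option autoImplicit false
set_option backward.isDefEq.respectTransparency false
set_option backward.isDefEq.respectTransparency.types false
set_option linter.style.haveILetI false
set_option maxHeartbeats 800000

universe u

open CategoryTheory CategoryTheory.Limits AlgebraicGeometry TopologicalSpace Opposite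
open Groth.Agent.SiteCoh
open Groth.Agent.QC (res resO res_res)
open Groth.Agent.WeakAssLib (mgerm)

noncomputable section

namespace Groth.Agent.CohBig

variable {X Y Z : Scheme.{u}}

/-- The direct image of an invertible module is nonzero where the morphism is an isomorphism. -/
theorem nontrivial_push_invertible (π : Z ⟶ Y) {L : Z.Modules} (hL : PicF.IsInvertible L) (U : Y.Opens)
    [IsIso (π ∣_ U)] {y : Y} (hy : y ∈ U) :
    Nontrivial (((Scheme.Modules.pushforward π).obj L).presheaf.stalk y) := by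
  obtain ⟨ξ, hξ⟩ : ∃ ξ : (π ⁻¹ᵁ U).toScheme, (π ∣_ U).base ξ = ⟨y, hy⟩ :=
    ((Scheme.homeoOfIso (asIso (π ∣_ U))).surjective _)
  obtain ⟨O, e, hξO, he⟩ := TMul.exists_isGen hL ξ.1
  have hop : IsOpen ((π ∣_ U).base '' ((π ⁻¹ᵁ U).ι ⁻¹ᵁ O : Set (π ⁻¹ᵁ U).toScheme)) :=
    (Scheme.homeoOfIso (asIso (π ∣_ U))).isOpenMap _ ((π ⁻¹ᵁ U).ι ⁻¹ᵁ O).2
  let W : Y.Opens := U.ι ''ᵁ ⟨_, hop⟩
  have hW : π ⁻¹ᵁ W ≤ O := by
    rintro z ⟨w, ⟨z', hz, rfl⟩, hwy⟩
    have hyU : z ∈ π ⁻¹ᵁ U := by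
      change π.base z ∈ U
      rw [← hwy]
      exact ((π ∣_ U).base z').2
    have : (π ∣_ U).base z' = (π ∣_ U).base ⟨z, hyU⟩ := Subtype.ext
      ((hwy : ((π ∣_ U).base z').1 = π.base z).trans
        (congrArg (fun g : (π ⁻¹ᵁ U).toScheme ⟶ Y => g.base ⟨z, hyU⟩) (morphismRestrict_ι π U)).symm)
    have hzy := (Scheme.homeoOfIso (asIso (π ∣_ U))).injective this
    subst hzy
    exact hz
  have hyW : y ∈ W := ⟨⟨_, hy⟩, ⟨ξ, hξO, hξ⟩, rfl⟩
  refine not_subsingleton_iff_nontrivial.mp fun hsub => ?_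
  let e' : Γ((Scheme.Modules.pushforward π).obj L, W) := res L hW e
  obtain ⟨W', hyW', i₁, i₂, hz⟩ := TopCat.Presheaf.germ_eq (C := Ab.{u})
    ((Scheme.Modules.pushforward π).obj L).presheaf y hyW hyW e' 0 (hsub.elim _ _)
  have h0 : res L ((π.preimage_mono (leOfHom i₁)).trans hW) e = 0 := by
    refine Eq.trans ?_ (hz.trans (map_zero _))
    exact (res_res L (π.preimage_mono (leOfHom i₁)) hW e).symm
  have hξW' : ξ.1 ∈ π ⁻¹ᵁ W' := by
    change π.base ξ.1 ∈ W'
    have := congrArg (fun g : (π ⁻¹ᵁ U).toScheme ⟶ Y => g.base ξ) (morphismRestrict_ι π U)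
    exact (show π.base ξ.1 = y from this.symm.trans (congrArg Subtype.val hξ)) ▸ hyW'
  have h1 : (1 : Γ(Z, π ⁻¹ᵁ W')) = 0 := (he _ ((π.preimage_mono (leOfHom i₁)).trans hW)).1
    (by simp only [h0, smul_zero])
  have h2 := congrArg (Z.presheaf.germ (π ⁻¹ᵁ W') ξ.1 hξW') h1
  rw [map_one, map_zero] at h2
  exact one_ne_zero h2

/-- A quasi-coherent module nonzero at a point has nonzero direct image below, along an affine map. -/
theorem nontrivial_push_stalk (f : Y ⟶ X) {M : Y.Modules} (hM : Coh.IsQCoh M) (U : X.Opens)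
    [IsAffineHom (f ∣_ U)] {y : Y} (hy : f y ∈ U) [Nontrivial (M.presheaf.stalk y)] :
    Nontrivial (((Scheme.Modules.pushforward f).obj M).presheaf.stalk (f y)) := by
  refine not_subsingleton_iff_nontrivial.mp fun hsub => ?_
  obtain ⟨W, hW, hyW, hWU⟩ := exists_isAffineOpen_mem_and_subset (U := U) hy
  have h : (⊥ : Submodule (Y.presheaf.stalk y) (M.presheaf.stalk y)) = ⊤ :=
    stalk_eq_top hM (isAffineOpen_preimage f U hW hWU) (show y ∈ f ⁻¹ᵁ W from hyW) ⊥ fun s => by
      rw [Submodule.mem_bot]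
      obtain ⟨W', hyW', i₁, i₂, hz⟩ := TopCat.Presheaf.germ_eq (C := Ab.{u})
        ((Scheme.Modules.pushforward f).obj M).presheaf (f y) (show f y ∈ W from hyW) hyW
        (show Γ((Scheme.Modules.pushforward f).obj M, W) from s) 0 (hsub.elim _ _)
      have h0 : res M (f.preimage_mono (leOfHom i₁)) s = 0 := hz.trans (map_zero _)
      rw [← WeakAssLib.mgerm_res M (f.preimage_mono (leOfHom i₁)) (show y ∈ f ⁻¹ᵁ W' from hyW') s, h0, map_zero]
  exact absurd h bot_ne_top

variable {d : ℕ}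

/-- A coherent module without higher direct images, nonzero over the top points. -/
theorem exists_acyclic {A : Type u} [CommRing A] [IsNoetherianRing A] [IsNoetherian X] [IsNoetherian Y]
    [HasInjectiveResolutions Y.Modules] (pY : Y ⟶ Spec (CommRingCat.of A)) [IsProper pY]
    (f : Y ⟶ X) [IsProper f] [Surjective f] (U : X.Opens) (hU : Dense (U : Set X))
    (hU' : Dense ((f ⁻¹ᵁ U : Y.Opens) : Set Y)) [IsFinite (f ∣_ U)] (hX : topologicalKrullDim X ≤ d) :
    ∃ M : Y.Modules, Coh.IsCoh M ∧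
      (∀ j, 1 ≤ j → ∀ t, Subsingleton (((Coh.Rpush f j).obj M).presheaf.stalk t)) ∧
      ∀ c : Fin (d + 1) → X, IsCh c →
        Nontrivial (((Scheme.Modules.pushforward f).obj M).presheaf.stalk (c (Fin.last d))) := by
  obtain ⟨N, Y', π, j, hj, hjf, hπ, -, U₀, hU₀, hiso, -⟩ := Chow.exists_chow pY
    TopologicalSpace.NoetherianSpace.finite_irreducibleComponents
  haveI := hπ
  haveI := hiso
  haveI : CompactSpace Y' := QuasiCompact.compactSpace_of_compactSpace π
  haveI : IsLocallyNoetherian Y' := LocallyOfFiniteType.isLocallyNoetherian π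
  haveI : IsNoetherian Y' := {}
  let L := (Scheme.Modules.pullback j).obj (Twist.twistOver N (Spec (CommRingCat.of A)) 1)
  have hL : CohB1.IsAmple L := ProjMor.isAmple_of_isRelVeryAmplePn (π ≫ pY)
    ⟨N, j, hj, hjf, ⟨Iso.refl _⟩⟩
  have hO : Coh.IsCoh (Coh.structureModule Y') := RefStalk.isCoh_structureModule
  obtain ⟨n₁, hn₁⟩ := Nakai.exists_directAcyclic_twist π hL hO
  obtain ⟨n₂, hn₂⟩ := Nakai.exists_directAcyclic_twist (π ≫ f) hL hO
  let G := CohB1.tensorMod (Coh.structureModule Y') (CohB1.tensorPow L (max n₁ n₂))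
  have hGi : PicF.IsInvertible G :=
    TMul.isInvertible_tensorMod TMul.isInvertible_structureModule (TMul.isInvertible_tensorPow hL.1 _)
  have hG : Coh.IsCoh G := ⟨TMul.isQCoh_of_isInvertible hGi, TMul.isFT_of_isInvertible hGi⟩
  have hM : Coh.IsCoh ((Scheme.Modules.pushforward π).obj G) := W7Exist.isCoh_push_proper π hG
  refine ⟨_, hM, fun p hp t => ?_, fun c hc => ?_⟩
  · haveI hQ : ((Scheme.Modules.pushforward (π ≫ f)).obj G).IsQuasicoherent :=
      (W7Exist.isCoh_push_proper (π ≫ f) hG).1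
    refine subsingleton_of_forall_eq 0 fun z => ?_
    obtain ⟨V, htV, s, rfl⟩ := TopCat.Presheaf.exists_germ_eq (C := Ab.{u})
      ((Coh.Rpush f p).obj ((Scheme.Modules.pushforward π).obj G)).presheaf z
    obtain ⟨W, hW, htW, hWV⟩ := exists_isAffineOpen_mem_and_subset (U := V) htV
    obtain ⟨p, rfl⟩ : ∃ q, p = q + 1 := ⟨p - 1, by omega⟩
    have h1 : Subsingleton (CohSite.HU (Coh.toAb ((Scheme.Modules.pushforward π).obj G)) (p + 1) (f ⁻¹ᵁ W)) := by
      obtain ⟨a⟩ := CohQC.hu_push_equiv π (Coh.toAb G) (hn₁ _ (le_max_left _ _)) (f ⁻¹ᵁ W) (p + 1)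
      obtain ⟨b⟩ := CohQC.hu_push_equiv (π ≫ f) (Coh.toAb G) (hn₂ _ (le_max_right _ _)) W (p + 1)
      have h2 := CohQC.hu_vanish_of_isAffineOpen ((Scheme.Modules.pushforward (π ≫ f)).obj G) hW p
      exact @Equiv.subsingleton _ _ a.symm.toEquiv (@Equiv.subsingleton _ _ b.toEquiv h2)
    obtain ⟨a⟩ := CohFinite.hu_equiv_sections f _ hM.1 hW (p + 1)
    obtain ⟨e⟩ := CohQC.toAb_rpush_iso f ((Scheme.Modules.pushforward π).obj G) (p + 1)
    have h3 : Subsingleton ↑(((Coh.RpushAb f (p + 1)).obj (Coh.toAb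
        ((Scheme.Modules.pushforward π).obj G))).obj.obj (op W)) := a.toEquiv.symm.subsingleton
    have h4 : res ((Coh.Rpush f (p + 1)).obj ((Scheme.Modules.pushforward π).obj G)) hWV s = 0 :=
      ((((sheafToPresheaf _ _).mapIso e).app (op W))).addCommGroupIsoToAddEquiv.toEquiv.injective (h3.elim _ _)
    rw [← germ_res' _ hWV htW s, h4, map_zero]
  · obtain ⟨y, hy⟩ := f.surjective (c (Fin.last d))
    have hmax : ∀ w, w ⤳ c (Fin.last d) → w = c (Fin.last d) := fun w hw => eq_of_long hX le_rfl hc hw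
    have hηU : f y ∈ U := hy ▸ mem_of_dense_of_max hmax U hU
    have hymax : ∀ w, w ⤳ y → w = y := fun w hw =>
      eq_of_finite f U hηU ((hmax _ (hy ▸ hw.map f.continuous)).trans hy.symm) hw
    haveI := nontrivial_push_invertible π hGi U₀ (mem_of_dense_of_max hymax U₀ hU₀)
    rw [← hy]
    exact nontrivial_push_stalk f hM.1 U hηU

end Groth.Agent.CohBig
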