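import Groth.Agent.CohBig.Acyclic
import Groth.Agent.TMul.Assoc
import Groth.Agent.RPushQC.Acyclic

/-!
Vanishing in top degree is insensitive to alterations.
-/

set_option autoImplicit false
set_option backward.isDefEq.respectTransparency false
set_option linter.style.haveILetI false
set_option maxHeartbeats 800000

universe u

open CategoryTheory CategoryTheory.Limits AlgebraicGeometry TopologicalSpace Opposite
open Groth.Agent.W7Hull (st)

noncomputable section

namespace Groth.Agent.CohBig

variable {X Y : Scheme.{u}}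

/-- Vanishing of sections passes to the source of an injective map. -/
theorem transfer_mono [IsNoetherian X] {M N : X.Modules} (φ : M ⟶ N)
    (hφ : ∀ x, Function.Injective (st φ x)) (h : Subsingleton (Coh.HH X N 0)) :
    Subsingleton (Coh.HH X M 0) := by
  have hI : Subsingleton (Coh.HH X (Abelian.image φ) 0) :=
    @Function.Injective.subsingleton _ _ _ (CohFinite.map_f_injective (CohFinite.shortExact_toAb (cokSeq_shortExact φ))) h
  exact CohQC.subsingleton_hh_middle (imSeq_shortExact φ) 0
    (subsingleton_of_stalks _ ⊤ (noLong_top 0) (fun x _ => subsingleton_kernel φ (hφ x)) _ le_rfl) hI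

variable [IsNoetherian X] [IsNoetherian Y] [HasInjectiveResolutions Y.Modules]
  (f : Y ⟶ X) [IsProper f] [Surjective f] (U : X.Opens) (hU : Dense (U : Set X))
  (hU' : Dense ((f ⁻¹ᵁ U : Y.Opens) : Set Y)) [IsFinite (f ∣_ U)] {d : ℕ}
  (hX : topologicalKrullDim X ≤ d) (hY : topologicalKrullDim Y ≤ d) (E : ℕ → X.Modules)
  (hE : ∀ n, Coh.IsCoh (E n))

include hU hU' hX hY hE

/-- Vanishing on the base gives vanishing upstairs. -/
theorem pvan_pullback (h : ∀ G : X.Modules, Coh.IsCoh G → PVan d E G) (F : Y.Modules) (hF : Coh.IsCoh F) :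
    PVan d (fun n => (Scheme.Modules.pullback f).obj (E n)) F := by
  have hG : Coh.IsCoh ((Scheme.Modules.pushforward f).obj F) := W7Exist.isCoh_push_proper f hF
  obtain ⟨n₀, hn₀⟩ := h _ hG
  refine ⟨n₀, fun n hn i hi => ?_⟩
  have hN : Coh.IsCoh (CohB1.tensorMod F ((Scheme.Modules.pullback f).obj (E n))) :=
    CurveRR.isCoh_tensor' hF (QC.isCoh_pullback f (hE n))
  refine leray_surj f U hU' hY _ hN hi ?_
  exact transfer_surj (CohFinite.projMap f F (E n)) U (noLong_dense hX U hU) (noLong_bot hX)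
    (fun x hx => projMap_surjective f hF.1 (hE n).1 hG.1 U hx) hi (hn₀ n hn i hi)

/-- Vanishing upstairs gives vanishing on the base. -/
theorem pvan_of_pullback {A : Type u} [CommRing A] [IsNoetherianRing A]
    (pY : Y ⟶ Spec (CommRingCat.of A)) [IsProper pY]
    (h : ∀ F : Y.Modules, Coh.IsCoh F → PVan d (fun n => (Scheme.Modules.pullback f).obj (E n)) F)
    (G : X.Modules) (hG : Coh.IsCoh G) : PVan d E G := by
  obtain ⟨M, hM, hMt, hM0⟩ := exists_acyclic pY f U hU hU' hX
  have hA : Coh.IsCoh ((Scheme.Modules.pushforward f).obj M) := W7Exist.isCoh_push_proper f hM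
  refine pvan_all hX E hA hM0 (fun K hK => ?_) G hG
  obtain ⟨n₀, hn₀⟩ := h _ (CurveRR.isCoh_tensor' hM (QC.isCoh_pullback f hK))
  refine ⟨n₀, fun n hn i hi => ?_⟩
  have hKE : Coh.IsCoh (CohB1.tensorMod K (E n)) := CurveRR.isCoh_tensor' hK (hE n)
  obtain ⟨t⟩ := TMul.nonempty_pullTensorIso f K (E n)
  have h1 : Subsingleton (Coh.HH Y (CohB1.tensorMod M
      ((Scheme.Modules.pullback f).obj (CohB1.tensorMod K (E n)))) i) :=
    CohQC.hh_subsingleton_of_iso (TMul.assocIso _ _ _ ≪≫ PicGrp.tensorModIso (Iso.refl M) t) _ (hn₀ n hn i hi)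
  have h2 := leray_inj f U hU' hY hM hMt hKE hi h1
  refine CohQC.hh_subsingleton_of_iso (TMul.assocIso _ K (E n)).symm _ ?_
  have hUn : NoLong U d := noLong_dense hX U hU
  have hinj : ∀ x ∈ U, Function.Injective (st (CohFinite.projMap f M (CohB1.tensorMod K (E n))) x) :=
    fun x hx => projMap_injective f hM.1 hKE.1 hA.1 U hx
  rcases Nat.eq_zero_or_pos i with rfl | hi0
  · obtain rfl : d = 0 := Nat.le_zero.1 hi
    refine transfer_mono _ (fun x => hinj x ?_) h2
    exact mem_of_dense hX (c := fun _ : Fin 1 => x) (fun a b hab => absurd hab (by omega)) U hU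
  · haveI : IsFinite (f ∣_ finLocus f) := isFinite_finLocus f le_rfl
    obtain ⟨e, rfl⟩ : ∃ e, i = e + 1 := ⟨i - 1, by omega⟩
    exact transfer_inj (CohFinite.projMap f M (CohB1.tensorMod K (E n))) U (finLocus f) (e := e)
      (hUn.mono (by omega)) (noLong_finLocus' f U hU' hY (by omega)) hinj
      (fun x hx => projMap_surjective f hM.1 hKE.1 hA.1 (finLocus f) hx) le_rfl h2

end Groth.Agent.CohBig
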