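import Groth.Agent.CohBig.Maps
import Groth.Agent.CohFinite.Tensor
import Groth.Agent.HTorBC.PairSec
import Groth.Agent.DQCoh.Tensor

/-!
The projection morphism is bijective over the opens over which the map is affine.
-/

set_option autoImplicit false
set_option backward.isDefEq.respectTransparency false
set_option linter.style.haveILetI false
set_option maxHeartbeats 800000

universe u

open CategoryTheory CategoryTheory.Limits AlgebraicGeometry TopologicalSpace Opposite TensorProduct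
open Groth.Agent.QC (res resO res_res app_res res_smul)

noncomputable section

namespace Groth.Agent.CohBig

variable {X Y : Scheme.{u}}

lemma isAffineOpen_preimage (f : Y ⟶ X) (O : X.Opens) [IsAffineHom (f ∣_ O)] {W : X.Opens}
    (hW : IsAffineOpen W) (hWO : W ≤ O) : IsAffineOpen (f ⁻¹ᵁ W) := by
  have h1 : IsAffineOpen (O.ι ⁻¹ᵁ W) := by
    rw [← O.ι.isAffineOpen_iff_of_isOpenImmersion, Scheme.Hom.image_preimage_eq_opensRange_inf,
      Scheme.Opens.opensRange_ι, inf_eq_right.2 hWO]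
    exact hW
  have h2 := (h1.preimage (f ∣_ O)).image_of_isOpenImmersion (f ⁻¹ᵁ O).ι
  rwa [show (f ∣_ O) ⁻¹ᵁ (O.ι ⁻¹ᵁ W) = (f ⁻¹ᵁ O).ι ⁻¹ᵁ (f ⁻¹ᵁ W) by
      rw [← Scheme.Hom.comp_preimage, morphismRestrict_ι, Scheme.Hom.comp_preimage],
    Scheme.Hom.image_preimage_eq_opensRange_inf, Scheme.Opens.opensRange_ι,
    inf_eq_right.2 (f.preimage_mono hWO)] at h2

theorem projMap_app_bijective (f : Y ⟶ X) {M : Y.Modules} (hM : Coh.IsQCoh M) {K : X.Modules}
    (hK : Coh.IsQCoh K) (hP : Coh.IsQCoh ((Scheme.Modules.pushforward f).obj M))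
    (W : X.Opens) (hW : IsAffineOpen W) (hfW : IsAffineOpen (f ⁻¹ᵁ W)) :
    Function.Bijective ((CohFinite.projMap f M K).app W) := by
  haveI := hK
  letI : Algebra Γ(X, W) Γ(Y, f ⁻¹ᵁ W) := (f.appLE W (f ⁻¹ᵁ W) le_rfl).hom.toAlgebra
  letI : Module Γ(X, W) Γ(M, f ⁻¹ᵁ W) := Module.compHom _ (f.appLE W (f ⁻¹ᵁ W) le_rfl).hom
  haveI : IsScalarTower Γ(X, W) Γ(Y, f ⁻¹ᵁ W) Γ(M, f ⁻¹ᵁ W) :=
    ⟨fun r b m => mul_smul ((f.appLE W (f ⁻¹ᵁ W) le_rfl).hom r) b m⟩
  obtain ⟨Φ, hΦ⟩ := ModDesc.exists_bijective_liftBaseChange f K hW hfW le_rfl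
  let e : Γ((Scheme.Modules.pushforward f).obj M, W) ≃ₗ[Γ(X, W)] Γ(M, f ⁻¹ᵁ W) :=
    { toFun := fun m => (show Γ(M, f ⁻¹ᵁ W) from m)
      map_add' := fun _ _ => rfl
      map_smul' := fun r m => by
        show f.app W r • (show Γ(M, f ⁻¹ᵁ W) from m) =
          f.appLE W (f ⁻¹ᵁ W) le_rfl r • (show Γ(M, f ⁻¹ᵁ W) from m)
        rw [Scheme.Hom.app_eq_appLE]
      invFun := fun m => (show Γ((Scheme.Modules.pushforward f).obj M, W) from m)
      left_inv := fun _ => rfl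
      right_inv := fun _ => rfl }
  let e₁ := TensorProduct.congr e (LinearEquiv.refl Γ(X, W) Γ(K, W))
  let e₂ := (TensorProduct.AlgebraTensorModule.cancelBaseChange Γ(X, W) Γ(Y, f ⁻¹ᵁ W) Γ(Y, f ⁻¹ᵁ W)
    Γ(M, f ⁻¹ᵁ W) Γ(K, W)).symm
  let e₃ := TensorProduct.congr (LinearEquiv.refl Γ(Y, f ⁻¹ᵁ W) Γ(M, f ⁻¹ᵁ W)) Φ
  have key : ∀ z, (CohFinite.projMap f M K).app W (TMul.tt _ K W z) =
      (show Γ((Scheme.Modules.pushforward f).obj (CohB1.tensorMod M ((Scheme.Modules.pullback f).obj K)), W) from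
        TMul.tt M _ (f ⁻¹ᵁ W) (e₃ (e₂ (e₁ z)))) := by
    intro z
    induction z using TensorProduct.induction_on with
    | zero => rw [map_zero, map_zero, map_zero, map_zero, map_zero, map_zero]
    | tmul m k =>
      rw [TMul.tt_tmul]
      refine (CohFinite.projMap_tm f M K (show Γ(M, f ⁻¹ᵁ W) from m) k).trans ?_
      show TMul.tm (show Γ(M, f ⁻¹ᵁ W) from m) (ProjMor.eta f K W k) =
        TMul.tt M _ (f ⁻¹ᵁ W) ((show Γ(M, f ⁻¹ᵁ W) from m) ⊗ₜ[Γ(Y, f ⁻¹ᵁ W)] Φ (1 ⊗ₜ k))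
      rw [TMul.tt_tmul, hΦ, ModDesc.pullSectLE_apply, QC.res_self]
      rfl
    | add a b ha hb => simp only [map_add, ha, hb]
  have hR := HTorBC.bijective_tt hfW hM (QC.isQCoh_pullback f hK)
  refine (Function.Bijective.of_comp_iff _ (HTorBC.bijective_tt hW hP hK)).1 ?_
  rw [show ⇑((CohFinite.projMap f M K).app W) ∘ ⇑(TMul.tt _ K W) = _ from funext key]
  exact (hR.comp e₃.bijective).comp (e₂.bijective.comp e₁.bijective)

theorem projMap_surjective (f : Y ⟶ X) {M : Y.Modules} (hM : Coh.IsQCoh M) {K : X.Modules}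
    (hK : Coh.IsQCoh K) (hP : Coh.IsQCoh ((Scheme.Modules.pushforward f).obj M)) (O : X.Opens)
    [IsAffineHom (f ∣_ O)] {x : X} (hx : x ∈ O) :
    Function.Surjective (W7Hull.st (CohFinite.projMap f M K) x) :=
  st_surjective_of_app _ O (fun W hW hWO =>
    (projMap_app_bijective f hM hK hP W hW (isAffineOpen_preimage f O hW hWO)).2) hx

theorem projMap_injective (f : Y ⟶ X) {M : Y.Modules} (hM : Coh.IsQCoh M) {K : X.Modules}
    (hK : Coh.IsQCoh K) (hP : Coh.IsQCoh ((Scheme.Modules.pushforward f).obj M)) (O : X.Opens)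
    [IsAffineHom (f ∣_ O)] {x : X} (hx : x ∈ O) :
    Function.Injective (W7Hull.st (CohFinite.projMap f M K) x) := by
  refine (injective_iff_map_eq_zero _).2 fun z hz => ?_
  obtain ⟨U, hU, s, rfl⟩ := TopCat.Presheaf.exists_germ_eq
    (CohB1.tensorMod ((Scheme.Modules.pushforward f).obj M) K).presheaf z
  rw [W7Hull.st_germ] at hz
  obtain ⟨A, hxA, i₁, _, he⟩ := TopCat.Presheaf.germ_eq
    ((Scheme.Modules.pushforward f).obj (CohB1.tensorMod M ((Scheme.Modules.pullback f).obj K))).presheaf x hU hU _ 0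
    (hz.trans (map_zero _).symm)
  have he' : res _ i₁.le ((CohFinite.projMap f M K).app U s) = 0 := he.trans (map_zero _)
  obtain ⟨B, hB, hxB, hBA⟩ := exists_isAffineOpen_mem_and_subset (U := A ⊓ O) ⟨hxA, hx⟩
  have hBA' : B ≤ A ⊓ O := hBA
  have hBU : B ≤ U := (hBA'.trans inf_le_left).trans i₁.le
  have h0 : (CohFinite.projMap f M K).app B (res _ hBU s) = 0 := by
    rw [← app_res, ← res_res _ (hBA'.trans inf_le_left) i₁.le, he', map_zero]
  have h1 : res _ hBU s = 0 :=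
    (projMap_app_bijective f hM hK hP B hB
      (isAffineOpen_preimage f O hB (hBA'.trans inf_le_right))).1 (h0.trans (map_zero _).symm)
  rw [← germ_res' _ hBU hxB s, h1, map_zero]

end Groth.Agent.CohBig
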