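import Groth.Agent.CohBig.FibreChains
import Groth.Agent.CohBig.Proj
import Groth.Agent.CohBig.Eval
import Groth.Agent.LeffAmple.Twist
import Groth.Agent.CohFinite.Proper
import Groth.Agent.Nakai.FlatEuler
import Groth.Agent.W7Exist.Induct
import Groth.Agent.RefStalk.Refl
import Groth.Agent.RegDual.Scheme

/-!
Vanishing in top degree along a proper surjective morphism that is finite over a dense open.
-/

set_option autoImplicit false
set_option backward.isDefEq.respectTransparency false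
set_option linter.style.haveILetI false
set_option maxHeartbeats 800000

universe u

open CategoryTheory CategoryTheory.Limits AlgebraicGeometry TopologicalSpace Opposite
open Groth.Agent.QC (res resO res_res app_res)
open Groth.Agent.WeakAssLib (mgerm mgerm_smul mgerm_res)
open Groth.Agent.W7Hull (st st_germ st_comp)

noncomputable section

namespace Groth.Agent.CohBig

variable {X Y : Scheme.{u}}

/-- A submodule of a stalk containing the germs of the sections over an affine open is everything. -/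
theorem stalk_eq_top {F : X.Modules} (hF : Coh.IsQCoh F) {W : X.Opens} (hW : IsAffineOpen W) {x : X} (hx : x ∈ W)
    (S : Submodule (X.presheaf.stalk x) (F.presheaf.stalk x)) (h : ∀ s : Γ(F, W), mgerm F hx s ∈ S) : S = ⊤ := by
  refine eq_top_iff.2 fun t _ => ?_
  letI := Module.compHom (F.presheaf.stalk x) (X.presheaf.germ W x hx).hom
  obtain ⟨g, hg, hgs⟩ := RefStalk.exists_loc hW hF hx
  obtain ⟨⟨s, a⟩, hsa⟩ := IsLocalizedModule.surj (hW.primeIdealOf ⟨x, hx⟩).asIdeal.primeCompl g t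
  have hu := WeakAssLib.isUnit_germ hW hx a.2
  have hsa' : (X.presheaf.germ W x hx).hom (a : Γ(X, W)) • t = mgerm F hx s := hsa.trans (hgs s)
  have h1 := h s
  rw [← hsa'] at h1
  exact (S.smul_mem_iff_of_isUnit hu).1 h1

/-- The counit is onto where the morphism is affine. -/
theorem counit_surjective (f : Y ⟶ X) (U : X.Opens) [IsAffineHom (f ∣_ U)] {F : Y.Modules} (hF : Coh.IsQCoh F)
    {y : Y} (hy : f y ∈ U) :
    Function.Surjective (st ((Scheme.Modules.pullbackPushforwardAdjunction f).counit.app F) y) := by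
  obtain ⟨W, hW, hyW, hWU⟩ := exists_isAffineOpen_mem_and_subset (U := U) hy
  have hfW := isAffineOpen_preimage f U hW hWU
  let adj := Scheme.Modules.pullbackPushforwardAdjunction f
  refine LinearMap.range_eq_top.1 (stalk_eq_top hF hfW (show y ∈ f ⁻¹ᵁ W from hyW) _ fun s => ?_)
  refine ⟨mgerm _ (show y ∈ f ⁻¹ᵁ W from hyW) ((adj.unit.app ((Scheme.Modules.pushforward f).obj F)).app W
    (show Γ((Scheme.Modules.pushforward f).obj F, W) from s)), ?_⟩
  refine (st_germ _ _ _).trans (congrArg _ ?_)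
  exact ConcreteCategory.congr_hom (congrArg (fun φ => φ.app W) (adj.right_triangle_components F))
    (show Γ((Scheme.Modules.pushforward f).obj F, W) from s)

/-- Over a local ring of dimension zero, nonzero finite modules admit a nonzero map between them. -/
theorem exists_linearMap_ne_zero (R : Type u) [CommRing R] [IsLocalRing R] [IsNoetherianRing R]
    [Ring.KrullDimLE 0 R] (A C : Type u) [AddCommGroup A] [Module R A] [AddCommGroup C] [Module R C]
    [Nontrivial A] [Module.Finite R A] [Nontrivial C] : ∃ φ : A →ₗ[R] C, φ ≠ 0 := by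
  obtain ⟨P, hP⟩ := associatedPrimes.nonempty R C
  obtain ⟨hPp, c, hc⟩ := (isAssociatedPrime_iff_exists_injective_linearMap P C).1 hP
  haveI := hPp
  have hPm : P = IsLocalRing.maximalIdeal R := IsLocalRing.eq_maximalIdeal (Ideal.IsPrime.isMaximal' hPp)
  letI := Ideal.Quotient.field (IsLocalRing.maximalIdeal R)
  have hS : IsLocalRing.maximalIdeal R • (⊤ : Submodule R A) ≠ ⊤ := fun h => (top_ne_bot : (⊤ : Submodule R A) ≠ ⊥)
    (Submodule.eq_bot_of_le_smul_of_le_jacobson_bot (IsLocalRing.maximalIdeal R) ⊤ Module.Finite.fg_top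
      h.ge (IsLocalRing.maximalIdeal_le_jacobson _))
  haveI : Nontrivial (A ⧸ IsLocalRing.maximalIdeal R • (⊤ : Submodule R A)) := Submodule.Quotient.nontrivial_iff.2 hS
  obtain ⟨v, hv⟩ := exists_ne (0 : A ⧸ IsLocalRing.maximalIdeal R • (⊤ : Submodule R A))
  obtain ⟨ℓ, hℓ⟩ : ∃ ℓ : (A ⧸ IsLocalRing.maximalIdeal R • (⊤ : Submodule R A)) →ₗ[(R ⧸ IsLocalRing.maximalIdeal R)] (R ⧸ IsLocalRing.maximalIdeal R), ℓ v ≠ 0 := by
    by_contra hall
    exact hv ((Module.forall_dual_apply_eq_zero_iff ((R ⧸ IsLocalRing.maximalIdeal R)) v).1 fun ℓ =>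
      not_not.1 fun h => hall ⟨ℓ, h⟩)
  obtain ⟨a, rfl⟩ := Submodule.Quotient.mk_surjective _ v
  let p : A →ₗ[R] (R ⧸ P) :=
    { toFun := fun x => Ideal.quotEquivOfEq hPm.symm (ℓ (Submodule.Quotient.mk x))
      map_add' := fun x y => by rw [Submodule.Quotient.mk_add, map_add, map_add]
      map_smul' := fun r x => by
        have h1 : (Submodule.Quotient.mk (r • x) : A ⧸ IsLocalRing.maximalIdeal R • (⊤ : Submodule R A)) =
            (Ideal.Quotient.mk (IsLocalRing.maximalIdeal R) r) • Submodule.Quotient.mk x := rfl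
        rw [h1, map_smul, smul_eq_mul, map_mul, RingHom.id_apply, Algebra.smul_def]
        rfl }
  refine ⟨c.comp p, fun h => hℓ ?_⟩
  have h1 : p a = 0 := hc ((LinearMap.congr_fun h a).trans (map_zero c).symm)
  exact (Ideal.quotEquivOfEq hPm.symm).injective (h1.trans (map_zero _).symm)

section

variable {K G D : X.Modules} (a : K ⟶ G) (c : cokernel a ⟶ D)

/-- the inclusion of `a` into the kernel -/
def liftA : K ⟶ kernel (cokernel.π a ≫ c) :=
  kernel.lift _ a (by rw [← Category.assoc, cokernel.condition, zero_comp])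

/-- the projection of the kernel -/
def liftB : kernel (cokernel.π a ≫ c) ⟶ kernel c :=
  kernel.lift c (kernel.ι (cokernel.π a ≫ c) ≫ cokernel.π a) (by rw [Category.assoc]; exact kernel.condition _)

@[reassoc (attr := simp)]
theorem liftA_ι : liftA a c ≫ kernel.ι (cokernel.π a ≫ c) = a := kernel.lift_ι _ _ _

@[reassoc (attr := simp)]
theorem liftB_ι : liftB a c ≫ kernel.ι c = kernel.ι (cokernel.π a ≫ c) ≫ cokernel.π a := kernel.lift_ι _ _ _

theorem comp_lift_zero : liftA a c ≫ liftB a c = 0 := by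
  rw [← cancel_mono (kernel.ι c), Category.assoc, liftB_ι, liftA_ι_assoc, zero_comp]
  exact cokernel.condition a

theorem exact_lift :
    (ShortComplex.mk _ _ (comp_lift_zero a c)).Exact ∧ Epi (ShortComplex.mk _ _ (comp_lift_zero a c)).g := by
  refine ⟨?_, ?_⟩
  · rw [ShortComplex.exact_iff_epi_kernel_lift]
    refine W7Hull.epi_of_stalk fun x v => ?_
    have h0 : st (cokernel.π a) x (st (kernel.ι (cokernel.π a ≫ c)) x (st (kernel.ι (liftB a c)) x v)) = 0 := by
      rw [← st_comp (kernel.ι (cokernel.π a ≫ c)) (cokernel.π a), ← liftB_ι, st_comp,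
        ← st_comp _ (liftB a c), kernel.condition, W7Hull.st_zero, map_zero]
    obtain ⟨w, hw⟩ := W7Hull.st_exact_cokernel a x _ h0
    refine ⟨w, W7Hull.st_injective (kernel.ι (liftB a c)) x
      (W7Hull.st_injective (kernel.ι (cokernel.π a ≫ c)) x ?_)⟩
    refine Eq.trans ?_ hw
    rw [← st_comp, ← st_comp]
    refine congrArg (fun g => st g x w) ?_
    rw [kernel.lift_ι_assoc]
    exact liftA_ι a c
  · refine W7Hull.epi_of_stalk fun x v => ?_
    obtain ⟨m, hm⟩ := (ModuleCat.epi_iff_surjective _).1 (Functor.map_epi (DerSch.stalkFunctor X x)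
      (cokernel.π a)) (st (kernel.ι c) x v)
    have hm' : st (cokernel.π a) x m = st (kernel.ι c) x v := hm
    obtain ⟨l, hl⟩ := W7Hull.st_exact_kernel (cokernel.π a ≫ c) x m (by
      rw [st_comp, hm', ← st_comp, kernel.condition, W7Hull.st_zero])
    refine ⟨l, W7Hull.st_injective (kernel.ι c) x ?_⟩
    rw [← st_comp]
    show st (liftB a c ≫ kernel.ι c) x l = _
    rw [liftB_ι, st_comp, hl, hm']

theorem le_lift :
    (∀ x v, ∃ w, st (kernel.ι (cokernel.π a ≫ c)) x w = st a x v) ∧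
      ∀ x z, st c x z = 0 → z ≠ 0 →
        ∃ w, st (kernel.ι (cokernel.π a ≫ c)) x w ∉ LinearMap.range (st a x) := by
  refine ⟨fun x v => ⟨st (kernel.lift (cokernel.π a ≫ c) a
    (by rw [← Category.assoc, cokernel.condition, zero_comp])) x v, by rw [← st_comp, kernel.lift_ι]⟩,
    fun x z hz hz0 => ?_⟩
  obtain ⟨m, hm⟩ := (ModuleCat.epi_iff_surjective _).1 (Functor.map_epi (DerSch.stalkFunctor X x)
    (cokernel.π a)) z
  have hm' : st (cokernel.π a) x m = z := hm
  obtain ⟨l, hl⟩ := W7Hull.st_exact_kernel (cokernel.π a ≫ c) x m (by rw [st_comp, hm', hz])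
  refine ⟨l, fun ⟨w, hw⟩ => hz0 ?_⟩
  rw [← hm', ← hl, ← hw, ← st_comp, cokernel.condition, W7Hull.st_zero]

end

/-- Eventual vanishing in degrees from `d` on. -/
def PVan (d : ℕ) (E : ℕ → X.Modules) (S : X.Modules) : Prop :=
  ∃ n₀ : ℕ, ∀ n, n₀ ≤ n → ∀ i, d ≤ i → Subsingleton (Coh.HH X (CohB1.tensorMod S (E n)) i)

theorem noLong_top (d : ℕ) : NoLong (⊤ : X.Opens) d := fun _ hc _ => hc 0 trivial

section

variable [IsNoetherian X] {d : ℕ} (hX : topologicalKrullDim X ≤ d) (E : ℕ → X.Modules)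

include hX in
theorem PVan.of_surj {S T : X.Modules} (φ : S ⟶ T) (U : X.Opens) (hU : NoLong U d)
    (hφ : ∀ x ∈ U, Function.Surjective (st φ x)) (h : PVan d E S) : PVan d E T := by
  obtain ⟨n₀, hn₀⟩ := h
  exact ⟨n₀, fun n hn i hi => transfer_surj (CohFinite.tmap φ (E n)) U hU (noLong_bot hX)
    (fun x hx => tmap_surjective φ _ (hφ x hx)) hi (hn₀ n hn i hi)⟩

include hX in
theorem PVan.middle {S : ShortComplex X.Modules} (hS : S.Exact) (hg : Epi S.g) (h₁ : PVan d E S.X₁)
    (h₃ : PVan d E S.X₃) : PVan d E S.X₂ := by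
  obtain ⟨n₁, hn₁⟩ := h₁
  obtain ⟨n₃, hn₃⟩ := h₃
  refine ⟨max n₁ n₃, fun n hn i hi => ?_⟩
  let T := (KFlat.schB X).flip.obj (E n)
  have hT : (S.map T).Exact ∧ Epi (T.map S.g) := KFlat.rightExact_of_preserves T
    (KFlat.exact_flip_of_rightExact (KFlat.braid X.sheaf) (KFlat.preservesFiniteColimits_left X.sheaf) (E n)) S hS hg
  haveI := hT.2
  have hK : (ShortComplex.mk (kernel.ι (S.map T).g) (S.map T).g (kernel.condition _)).ShortExact :=
    { exact := ShortComplex.exact_of_f_is_kernel _ (kernelIsKernel _)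
      epi_g := hT.2 }
  haveI := hT.1.epi_kernelLift
  refine CohQC.subsingleton_hh_middle hK i ?_ (hn₃ n (le_of_max_le_right hn) i hi)
  refine transfer_surj (kernel.lift (S.map T).g (S.map T).f (S.map T).zero) ⊤ (noLong_top d) (noLong_bot hX)
    (fun x _ => (ModuleCat.epi_iff_surjective _).1 (Functor.map_epi (DerSch.stalkFunctor X x) _)) hi ?_
  exact hn₁ n (le_of_max_le_left hn) i hi

theorem PVan.of_isZero {S : X.Modules} (h : IsZero S) : PVan d E S := by
  refine ⟨0, fun n _ i _ => subsingleton_of_stalks _ ⊤ (noLong_top 0) (fun x _ => ?_) i (Nat.zero_le _)⟩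
  have hs : Function.Surjective (st (0 : S ⟶ S) x) := fun z =>
    ⟨z, by rw [← h.eq_of_src (𝟙 S) 0, W7Hull.st_id]⟩
  refine subsingleton_of_forall_eq 0 fun z => ?_
  obtain ⟨w, rfl⟩ := tmap_surjective (0 : S ⟶ S) (E n) hs z
  rw [CohFinite.tmap_zero, W7Hull.st_zero]

include hX in
/-- A module generically nonzero maps nonzero to any other one at a top point. -/
theorem exists_ne_zero_at {A C : X.Modules} (hA : Coh.IsCoh A) (hC : Coh.IsCoh C) {c : Fin (d + 1) → X}
    (hc : IsCh c) [Nontrivial (A.presheaf.stalk (c (Fin.last d)))]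
    [Nontrivial (C.presheaf.stalk (c (Fin.last d)))] :
    ∃ (H : X.Modules) (ψ : CohB1.tensorMod H A ⟶ C), Coh.IsCoh H ∧ ∃ v, st ψ (c (Fin.last d)) v ≠ 0 := by
  generalize hθ : c (Fin.last d) = θ at *
  haveI : Module.Finite (X.presheaf.stalk θ) (A.presheaf.stalk θ) := RegDual.finite_stalk hA θ
  haveI : Module.Finite (X.presheaf.stalk θ) (C.presheaf.stalk θ) := RegDual.finite_stalk hC θ
  haveI : Ring.KrullDimLE 0 (X.presheaf.stalk θ) := krullDimLE_of_coheight_le (Order.coheight_le fun p hp => by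
    by_contra hlen
    rw [not_le] at hlen
    have hl : 0 < p.length := by exact_mod_cast hlen
    have h01 : p ⟨0, by omega⟩ < p ⟨1, by omega⟩ := p.strictMono (Fin.mk_lt_mk.2 (by omega))
    have hx' : θ ≤ p.head := hp.ge
    have hle : p ⟨1, by omega⟩ ⤳ c (Fin.last d) := hθ.symm ▸ hx'.trans h01.le
    exact (hx'.trans_lt h01).ne' ((eq_of_long hX le_rfl hc hle).trans hθ))
  obtain ⟨θ₀, hθ₀⟩ := exists_linearMap_ne_zero (X.presheaf.stalk θ) (A.presheaf.stalk θ) (C.presheaf.stalk θ)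
  haveI := hA.1
  obtain ⟨σ, hσ⟩ := (RefStalk.evalStalk_bijective (G := C) (QC.isFP_of_isQCoh_of_isFT hA.2) θ).2 θ₀
  obtain ⟨W, hθW, g, rfl⟩ := TopCat.Presheaf.exists_germ_eq (RefHull.homSh A C).presheaf σ
  obtain ⟨z, hz⟩ : ∃ z, θ₀ z ≠ 0 := by
    by_contra hall
    exact hθ₀ (LinearMap.ext fun z => not_not.1 fun h => hall ⟨z, h⟩)
  obtain ⟨W', hθW', t, rfl⟩ := TopCat.Presheaf.exists_germ_eq A.presheaf z
  refine ⟨RefHull.homSh A C, ev A C, RefStalk.isCoh_homSh hA hC,
    (CohB1.tensorMod (RefHull.homSh A C) A).presheaf.germ (W ⊓ W') θ ⟨hθW, hθW'⟩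
      (TMul.tm (res (RefHull.homSh A C) inf_le_left g) (res A inf_le_right t)), ?_⟩
  rw [st_germ, ev_tm]
  refine fun h0 => hz ?_
  have h1 : mgerm C (⟨hθW, hθW'⟩ : θ ∈ W ⊓ W')
      (evVal (res (RefHull.homSh A C) inf_le_left g) (res A inf_le_right t)) = 0 := h0
  rw [evVal_germ, mgerm_res] at h1
  rw [← hσ, RefHull.evalStalk_germ]
  exact h1

include hX in
theorem PVan.of_lift {K G D : X.Modules} (a : K ⟶ G) (c : cokernel a ⟶ D) (hK : PVan d E K)
    (hI : PVan d E (kernel c)) : PVan d E (kernel (cokernel.π a ≫ c)) := by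
  obtain ⟨S, hS, hg, h₁, h₂, h₃⟩ : ∃ S : ShortComplex X.Modules, S.Exact ∧ Epi S.g ∧ S.X₁ = K ∧
      S.X₂ = kernel (cokernel.π a ≫ c) ∧ S.X₃ = kernel c :=
    ⟨_, (exact_lift a c).1, (exact_lift a c).2, rfl, rfl, rfl⟩
  exact h₂ ▸ PVan.middle hX E hS hg (h₁ ▸ hK) (h₃ ▸ hI)

include hX in
/-- Enlarging a submodule along a map into its cokernel. -/
theorem exists_bigger {K G P : X.Modules} (a : K ⟶ G) (hG : Coh.IsQCoh G) (hC : Coh.IsQCoh (cokernel a))
    (hP' : Coh.IsQCoh P) (hPK : PVan d E K) (hPP : PVan d E P) (ψ : P ⟶ cokernel a) :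
    ∃ (L : X.Modules) (a' : L ⟶ G), Coh.IsQCoh L ∧ PVan d E L ∧
      (∀ x v, ∃ w, st a' x w = st a x v) ∧
      ∀ x v, st ψ x v ≠ 0 → ∃ w, st a' x w ∉ LinearMap.range (st a x) := by
  have hI : PVan d E (kernel (cokernel.π ψ)) :=
    hPP.of_surj hX E (Abelian.factorThruImage ψ) ⊤ (noLong_top d) fun x _ =>
      (ModuleCat.epi_iff_surjective _).1 (Functor.map_epi (DerSch.stalkFunctor X x) _)
  have h1 := le_lift a (cokernel.π ψ)
  exact ⟨_, kernel.ι _, QC.isQCoh_kernel hG (QC.isQCoh_cokernel hP' hC ψ) _,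
    PVan.of_lift hX E a (cokernel.π ψ) hPK hI, h1.1, fun x v hv =>
      h1.2 x (st ψ x v) (by rw [← st_comp, cokernel.condition, W7Hull.st_zero]) hv⟩

include hX in
/-- Dévissage: a module generically nonzero at the top points generates. -/
theorem pvan_all {A : X.Modules} (hA : Coh.IsCoh A)
    (hA0 : ∀ c : Fin (d + 1) → X, IsCh c → Nontrivial (A.presheaf.stalk (c (Fin.last d))))
    (hP : ∀ K : X.Modules, Coh.IsCoh K → PVan d E (CohB1.tensorMod A K))
    (G : X.Modules) (hG : Coh.IsCoh G) : PVan d E G := by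
  classical
  obtain ⟨Z, hZf, -, hZ⟩ := CohBound.exists_max_points (X := X) (B := Set.univ) isClosed_univ
  let tops : Finset X := hZf.toFinset.filter fun η => ∃ c : Fin (d + 1) → X, IsCh c ∧ c (Fin.last d) = η
  -- the submodules with the property covering a given set of top points
  suffices key : ∀ s : Finset X, s ⊆ tops → ∃ (K : X.Modules) (a : K ⟶ G), Coh.IsQCoh K ∧ PVan d E K ∧
      ∀ η ∈ s, Function.Surjective (st a η) by
    obtain ⟨K, a, hK, hPK, ha⟩ := key tops (Finset.Subset.refl _)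
    have hC : Coh.IsCoh (cokernel a) := QC.isCoh_cokernel hK hG a
    let U : X.Opens := ⟨(CohB1.support (cokernel a))ᶜ, (QC.isClosed_support hC.2).isOpen_compl⟩
    refine hPK.of_surj hX E a U (fun c hc hcc => ?_) fun x hx z => ?_
    · obtain ⟨w, hwZ, hw⟩ := hZ (c (Fin.last d)) (Set.mem_univ _)
      have hwc := eq_of_long hX le_rfl hcc hw
      have hη : c (Fin.last d) ∈ tops :=
        Finset.mem_filter.2 ⟨hZf.mem_toFinset.2 (hwc ▸ hwZ), c, hcc, rfl⟩
      exact hc (Fin.last d) fun hsupp => hsupp (subsingleton_cokernel a (ha _ hη))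
    · haveI : Subsingleton ((cokernel a).presheaf.stalk x) := CurveRR.subsingleton_stalk hx
      exact W7Hull.st_exact_cokernel a x z (Subsingleton.elim _ _)
  intro s
  induction s using Finset.induction_on with
  | empty => exact fun _ => ⟨kernel (𝟙 G), kernel.ι _, QC.isQCoh_kernel hG.1 hG.1 _,
      PVan.of_isZero E (isZero_kernel_of_mono _), by simp⟩
  | insert η s hηs ih =>
    intro hsub
    obtain ⟨K₀, a₀, hK₀, hPK₀, ha₀⟩ := ih fun x hx => hsub (Finset.mem_insert_of_mem hx)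
    obtain ⟨-, c, hc, hη⟩ := Finset.mem_filter.1 (hsub (Finset.mem_insert_self η s))
    haveI : IsNoetherian (X.presheaf.stalk η) (G.presheaf.stalk η) := by
      haveI := RegDual.finite_stalk hG η
      exact isNoetherian_of_isNoetherianRing_of_finite _ _
    let Sset : Set (Submodule (X.presheaf.stalk η) (G.presheaf.stalk η)) :=
      {R | ∃ (K : X.Modules) (a : K ⟶ G), Coh.IsQCoh K ∧ PVan d E K ∧
        (∀ θ ∈ s, Function.Surjective (st a θ)) ∧ LinearMap.range (st a η) = R}
    obtain ⟨R, ⟨K, a, hK, hPK, ha, rfl⟩, hmax⟩ :=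
      wellFounded_gt.has_min Sset ⟨_, K₀, a₀, hK₀, hPK₀, ha₀, rfl⟩
    refine ⟨K, a, hK, hPK, fun θ hθ => ?_⟩
    rcases Finset.mem_insert.1 hθ with rfl | hθs
    swap
    · exact ha θ hθs
    by_contra hsurj
    have hC : Coh.IsCoh (cokernel a) := QC.isCoh_cokernel hK hG a
    haveI : Nontrivial ((cokernel a).presheaf.stalk (c (Fin.last d))) := by
      rw [← not_subsingleton_iff_nontrivial, hη]
      intro h
      exact hsurj fun z => W7Hull.st_exact_cokernel a θ z (h.elim _ _)
    haveI := hA0 c hc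
    obtain ⟨H, ψ, hH, v, hv⟩ := exists_ne_zero_at hX hA hC hc
    obtain ⟨L, a', hL, hPL, hle, hne⟩ := exists_bigger hX E a hG.1 hC.1 (DQCoh.isQCoh_tensor hH.1 hA.1) hPK
      ((hP H hH).of_surj hX E (TMul.commIso A H).hom ⊤ (noLong_top d) fun x _ =>
        (W7Hull.bijective_of_isIso _ x).2) ψ
    refine hmax (LinearMap.range (st a' θ)) ⟨L, a', hL, hPL, fun x hx z' => ?_, rfl⟩ ?_
    · obtain ⟨v', rfl⟩ := ha x hx z'
      exact hle x v'
    · refine lt_of_le_of_ne (fun z ⟨w, hw⟩ => hw ▸ hle θ w) fun heq => ?_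
      obtain ⟨w, hw⟩ := hne _ v hv
      clear hv
      revert w
      rw [hη]
      exact fun w hw => hw (heq.symm ▸ ⟨w, rfl⟩)

end

end Groth.Agent.CohBig
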