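import Groth.Agent.CohBig.Alteration

/-!
Vanishing is inherited by pullbacks along finite morphisms.
-/

set_option autoImplicit false
set_option backward.isDefEq.respectTransparency false
set_option linter.style.haveILetI false
set_option maxHeartbeats 800000

universe u

open CategoryTheory CategoryTheory.Limits AlgebraicGeometry TopologicalSpace Opposite
open Groth.Agent.W7Hull (st)
open Groth.Agent.SiteCoh

noncomputable section

namespace Groth.Agent.CohBig

variable {X Y : Scheme.{u}}

theorem hh_of_finite_pull [IsNoetherian X] [IsNoetherian Y] (f : Y ⟶ X) [IsFinite f] {M : Y.Modules}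
    (hM : Coh.IsCoh M) {K : X.Modules} (hK : Coh.IsCoh K) (i : ℕ)
    (h : Subsingleton (Coh.HH X (CohB1.tensorMod ((Scheme.Modules.pushforward f).obj M) K) i)) :
    Subsingleton (Coh.HH Y (CohB1.tensorMod M ((Scheme.Modules.pullback f).obj K)) i) := by
  haveI : IsAffineHom (f ∣_ ⊤) := inferInstance
  have hP := W7Exist.isCoh_push_proper f hM
  let φ := CohFinite.projMap f M K
  haveI : IsIso φ := Groth.Agent.ZCl.isIso_of_stalk φ fun x =>
    ⟨projMap_injective f hM.1 hK.1 hP.1 ⊤ (x := x) trivial, projMap_surjective f hM.1 hK.1 hP.1 ⊤ (x := x) trivial⟩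
  have h1 := CohQC.hh_subsingleton_of_iso (asIso φ) i h
  haveI : (CohB1.tensorMod M ((Scheme.Modules.pullback f).obj K)).IsQuasicoherent :=
    (CurveRR.isCoh_tensor' hM (QC.isCoh_pullback f hK)).1
  obtain ⟨a, -⟩ := CohFinite.h_push_natural f.base i
  exact @Equiv.subsingleton _ _ (a _ (CohQC.directAcyclic_of_isAffineHom f _)).toEquiv h1

end Groth.Agent.CohBig
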