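import Groth.Agent.W7Hull.Edge

/-!
The edge map for a direct image in a range where the higher direct images have no cohomology.
-/

set_option autoImplicit false
set_option backward.isDefEq.respectTransparency false
set_option linter.style.haveILetI false
set_option synthInstance.maxHeartbeats 100000

universe u

open CategoryTheory CategoryTheory.Limits Opposite TopologicalSpace Abelian
open Groth.Agent.SiteCoh
open Groth.Agent.W7Hull (edgeAb edgeAb_natural edgeAb_bijective_zero)

noncomputable section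

namespace Groth.Agent.CohBig

variable {X Y : TopCat.{u}} (f : Y ⟶ X)

/-- Classes of degree `q` over preimages of neighbourhoods of `x` die near `x`. -/
def KilledAt (x : X) (G : CohTop.Ab Y) (q : ℕ) : Prop :=
  ∀ (V : Opens X), x ∈ V → ∀ ξ : Ext (CohCx.freeSheaf (Opens.grothendieckTopology Y) ((Opens.map f).obj V)) G q,
    ∃ (W : Opens X) (h : W ≤ V), x ∈ W ∧
      (Ext.mk₀ (CohCx.freeSheafMap (Opens.grothendieckTopology Y) ((Opens.map f).map (homOfLE h)))).comp ξ
        (zero_add q) = 0

/-- Sheaves with vanishing stalks on `O` have no cohomology in degree `m`. -/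
def AcyOff (O : Opens X) (m : ℕ) : Prop :=
  ∀ M : CohTop.Ab X, (∀ x ∈ O, Subsingleton (CohTop.stalk M x)) → Subsingleton (CohTop.H M m)

/-- Vanishing of the higher direct images in degree `m - j`. -/
def LerayVan (G : CohTop.Ab Y) (m : ℕ) : Prop :=
  ∀ j, 1 ≤ j → j ≤ m → ∃ O : Opens X, (∀ x ∈ O, KilledAt f x G j) ∧ AcyOff O (m - j)

/-- A vanishing stalk of the higher direct image kills classes nearby. -/
theorem killedAt_of_stalk (x : X) (G : CohTop.Ab Y) (q : ℕ)
    (h : Subsingleton (CohTop.stalk ((presheafToSheaf (Opens.grothendieckTopology X) AddCommGrpCat.{u}).obj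
      ((Opens.map f).op ⋙ hPre G q)) x)) : KilledAt f x G q := by
  intro V hx ξ
  let P := (Opens.map f).op ⋙ hPre G q
  let a : P.obj (op V) := (ξ : (hPre G q).obj (op ((Opens.map f).obj V)))
  let Q := ((presheafToSheaf (Opens.grothendieckTopology X) AddCommGrpCat.{u}).obj P).obj
  have h0 : TopCat.Presheaf.germ (C := AddCommGrpCat.{u}) (X := X) Q V x hx
      ((toSheafify (Opens.grothendieckTopology X) P).app (op V) a) =
      TopCat.Presheaf.germ (C := AddCommGrpCat.{u}) (X := X) Q V x hx 0 := h.elim _ _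
  obtain ⟨W, hxW, i₁, i₂, e⟩ := TopCat.Presheaf.germ_eq (C := AddCommGrpCat.{u}) (X := X) Q x hx hx _ _ h0
  have e' : (toSheafify (Opens.grothendieckTopology X) P).app (op W) (P.map i₁.op a) =
      (toSheafify (Opens.grothendieckTopology X) P).app (op W) 0 := by
    rw [map_zero, NatTrans.naturality_apply (toSheafify (Opens.grothendieckTopology X) P) i₁.op a]
    exact e.trans (map_zero _)
  obtain ⟨W', i, hi, hxW'⟩ := Presheaf.equalizerSieve_mem (Opens.grothendieckTopology X)
    (toSheafify (Opens.grothendieckTopology X) P) (X := op W) (P.map i₁.op a) 0 e' x hxW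
  refine ⟨W', (leOfHom i).trans (leOfHom i₁), hxW', ?_⟩
  have hi' : P.map i.op (P.map i₁.op a) = 0 := hi.trans (map_zero _)
  rw [← ConcreteCategory.comp_apply, ← P.map_comp, ← op_comp] at hi'
  exact hi'

theorem killedAt_quotient {x : X} {G : CohTop.Ab Y} {q : ℕ} (hq : 1 ≤ q) (h : KilledAt f x G (q + 1)) :
    KilledAt f x (embedSeq G).X₃ q := by
  intro V hx η
  have hS := embedSeq_shortExact G
  obtain ⟨W, hW, hxW, hk⟩ := h V hx (η.comp hS.extClass rfl)
  refine ⟨W, hW, hxW, ?_⟩
  obtain ⟨p, rfl⟩ : ∃ p, q = p + 1 := ⟨q - 1, by omega⟩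
  apply (shiftEquiv hS (CohCx.freeSheaf (Opens.grothendieckTopology Y) ((Opens.map f).obj W)) (p + 1)).injective
  rw [map_zero]
  refine Eq.trans ?_ hk
  exact Ext.comp_assoc _ _ _ (zero_add (p + 1)) rfl (by omega)

variable (G : CohTop.Ab Y)

/-- The image of `f_*I ⟶ f_*Q`. -/
def imS : ShortComplex (CohTop.Ab X) :=
  ShortComplex.mk ((CohTop.push f).map (embedSeq G).f)
    (Abelian.factorThruImage ((CohTop.push f).map (embedSeq G).g)) (by
      rw [← cancel_mono (Abelian.image.ι ((CohTop.push f).map (embedSeq G).g)), Category.assoc,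
        Abelian.image.fac, zero_comp, ← Functor.map_comp, (embedSeq G).zero, Functor.map_zero])

theorem imS_shortExact : (imS f G).ShortExact := by
  have hS := embedSeq_shortExact G
  haveI := hS.mono_f
  haveI : (CohTop.push f).IsRightAdjoint := (CohPull.invPushAdj f).isRightAdjoint
  let g := (CohTop.push f).map (embedSeq G).g
  have hk : IsLimit (KernelFork.ofι ((CohTop.push f).map (embedSeq G).f) (show (CohTop.push f).map (embedSeq G).f ≫ g = 0
      by rw [← Functor.map_comp, (embedSeq G).zero, Functor.map_zero])) :=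
    KernelFork.mapIsLimit _ hS.fIsKernel (CohTop.push f)
  exact
    { exact := ShortComplex.exact_of_f_is_kernel _ (KernelFork.IsLimit.ofι _ _
        (fun {A} t ht => hk.lift (KernelFork.ofι t (show t ≫ g = 0 by
          rw [← Abelian.image.fac g, ← Category.assoc]
          exact (congrArg (· ≫ Abelian.image.ι g) ht).trans zero_comp)))
        (fun {A} t ht => Fork.IsLimit.lift_ι hk)
        (fun {A} t ht m hm => Fork.IsLimit.hom_ext hk (hm.trans (Eq.symm (hk.fac (KernelFork.ofι t _) WalkingParallelPair.zero)))))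
      mono_f := inferInstanceAs (Mono ((CohTop.push f).map (embedSeq G).f))
      epi_g := inferInstanceAs (Epi (Abelian.factorThruImage g)) }

/-- The cokernel of `f_*I ⟶ f_*Q`. -/
def cokS : ShortComplex (CohTop.Ab X) :=
  ShortComplex.mk (Abelian.image.ι ((CohTop.push f).map (embedSeq G).g))
    (cokernel.π ((CohTop.push f).map (embedSeq G).g)) (kernel.condition _)

theorem cokS_shortExact : (cokS f G).ShortExact :=
  { exact := ShortComplex.exact_of_f_is_kernel _ (kernelIsKernel _)
    mono_f := inferInstanceAs (Mono (Abelian.image.ι ((CohTop.push f).map (embedSeq G).g)))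
    epi_g := inferInstanceAs (Epi (cokernel.π ((CohTop.push f).map (embedSeq G).g))) }

theorem subsingleton_stalk_cok {x : X} (h : KilledAt f x G 1) :
    Subsingleton (CohTop.stalk (cokS f G).X₃ x) := by
  refine subsingleton_of_forall_eq 0 fun z => ?_
  obtain ⟨V, hx, s, rfl⟩ := TopCat.Presheaf.exists_germ_eq (C := AddCommGrpCat.{u}) (X := X)
    (cokS f G).X₃.obj z
  have hls := (Sheaf.isLocallySurjective_iff_epi' AddCommGrpCat.{u} (cokS f G).g).mpr
    (cokS_shortExact f G).epi_g
  obtain ⟨V₁, i, ⟨t, ht⟩, hxV₁⟩ := Presheaf.imageSieve_mem (Opens.grothendieckTopology X)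
    (cokS f G).g.hom (U := op V) s x hx
  have hS := embedSeq_shortExact G
  let φ := (secEquiv ((Opens.map f).obj V₁) (embedSeq G).X₃).symm t
  obtain ⟨W, hW, hxW, hk⟩ := h V₁ hxV₁ ((Ext.mk₀ φ).comp hS.extClass (zero_add 1))
  rw [← Ext.comp_assoc _ _ _ (zero_add 0) (zero_add 1) (by omega), Ext.mk₀_comp_mk₀] at hk
  obtain ⟨x₂, hx₂⟩ := Ext.covariant_sequence_exact₃ _ hS _ (zero_add 1) hk
  obtain ⟨ψ, rfl⟩ := (Ext.mk₀_bijective _ _).2 x₂
  let v : ((CohTop.push f).obj (embedSeq G).X₂).obj.obj (op W) :=
    secEquiv ((Opens.map f).obj W) (embedSeq G).X₂ ψ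
  have hv : ((CohTop.push f).map (embedSeq G).g).hom.app (op W) v =
      ((CohTop.push f).obj (embedSeq G).X₃).obj.map (homOfLE hW).op t := by
    change (embedSeq G).g.hom.app (op ((Opens.map f).obj W)) (secEquiv _ (embedSeq G).X₂ ψ) =
      (embedSeq G).X₃.obj.map ((Opens.map f).map (homOfLE hW)).op t
    rw [← secEquiv_comp, (Ext.mk₀_bijective _ _).1 ((Ext.mk₀_comp_mk₀ ψ (embedSeq G).g).symm.trans hx₂),
      secEquiv_freeSheafMap]
    exact congr_arg _ ((secEquiv ((Opens.map f).obj V₁) (embedSeq G).X₃).apply_symm_apply t)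
  have h0 : (cokS f G).g.hom.app (op W) (((CohTop.push f).obj (embedSeq G).X₃).obj.map (homOfLE hW).op t) = 0 := by
    rw [← hv]
    exact (ConcreteCategory.congr_hom (NatTrans.congr_app (congrArg (fun a => a.hom)
      (cokernel.condition ((CohTop.push f).map (embedSeq G).g))) (op W)) v)
  have h0' : (cokS f G).X₃.obj.map (homOfLE hW).op ((cokS f G).g.hom.app (op V₁) t) = 0 :=
    (NatTrans.naturality_apply (cokS f G).g.hom (homOfLE hW).op t).symm.trans h0
  rw [ht] at h0'
  rw [← TopCat.Presheaf.germ_res_apply (C := AddCommGrpCat.{u}) (X := X) (cokS f G).X₃.obj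
    (homOfLE ((hW).trans (leOfHom i))) x hxW s]
  refine (congrArg _ ?_).trans (map_zero _)
  refine Eq.trans ?_ h0'
  rw [← ConcreteCategory.comp_apply, ← Functor.map_comp]
  rfl

theorem edge_δ (p : ℕ) (b : Sheaf.H (imS f G).X₃ p) :
    edgeAb f G (p + 1) (CohFinite.δH (imS_shortExact f G) p b) =
      CohFinite.δH (embedSeq_shortExact G) p
        (edgeAb f (embedSeq G).X₃ p (Sheaf.H.map (cokS f G).f p b)) := by
  let hS := embedSeq_shortExact G
  let hT := imS_shortExact f G
  let hU := hT.map_of_exact (CohPull.inv f)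
  let ψ : (imS f G).map (CohPull.inv f) ⟶ embedSeq G :=
    { τ₁ := (CohPull.invPushAdj f).counit.app (embedSeq G).X₁
      τ₂ := (CohPull.invPushAdj f).counit.app (embedSeq G).X₂
      τ₃ := (CohPull.inv f).map (cokS f G).f ≫ (CohPull.invPushAdj f).counit.app (embedSeq G).X₃
      comm₁₂ := ((CohPull.invPushAdj f).counit.naturality (embedSeq G).f).symm
      comm₂₃ := by
        refine ((CohPull.invPushAdj f).counit.naturality (embedSeq G).g).symm.trans ?_
        show (CohPull.inv f).map ((CohTop.push f).map (embedSeq G).g) ≫ _ =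
          (CohPull.inv f).map (imS f G).g ≫ (CohPull.inv f).map (cokS f G).f ≫ _
        rw [← Category.assoc, ← Functor.map_comp]
        congr 2
        exact (Abelian.image.fac _).symm }
  have h1 : CohPull.pullAb f _ (p + 1) (CohFinite.δH hT p b) =
      CohFinite.δH hU p (CohPull.pullAb f _ p b) := by
    change (Ext.mk₀ (CohPull.oneTo f)).comp
        ((Ext.comp b hT.extClass rfl).mapExactFunctor (CohPull.inv f)) (zero_add (p + 1)) =
      ((Ext.mk₀ (CohPull.oneTo f)).comp (Ext.mapExactFunctor (CohPull.inv f) b) (zero_add p)).comp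
        hU.extClass rfl
    rw [Ext.mapExactFunctor_comp, Ext.mapExactFunctor_extClass,
      Ext.comp_assoc _ _ _ (zero_add p) rfl (by omega)]
  refine (congrArg (Sheaf.H.map ((CohPull.invPushAdj f).counit.app (embedSeq G).X₁) (p + 1)) h1).trans ?_
  refine (CohFinite.δH_natural hU hS ψ p _).symm.trans ?_
  refine congrArg (CohFinite.δH hS p) ?_
  show Sheaf.H.map ((CohPull.inv f).map (cokS f G).f ≫ (CohPull.invPushAdj f).counit.app (embedSeq G).X₃) p
      (CohPull.pullAb f _ p b) =
    Sheaf.H.map ((CohPull.invPushAdj f).counit.app (embedSeq G).X₃) p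
      (CohPull.pullAb f _ p (Sheaf.H.map (cokS f G).f p b))
  refine (Sheaf.H.map_comp_apply _ _ _).trans ?_
  exact congrArg (Sheaf.H.map ((CohPull.invPushAdj f).counit.app (embedSeq G).X₃) p)
    (W7Hull.pullAb_map f (cokS f G).f p b).symm

theorem subsingleton_push_injective (p : ℕ) :
    Subsingleton (Sheaf.H ((CohTop.push f).obj (embedSeq G).X₂) (p + 1)) :=
  (huTerminalEquiv (Opens.grothendieckTopology X) isTerminalTop _ (p + 1)).toEquiv.subsingleton_congr.mpr
    (push_injective_acyclic f (embedSeq G).X₂ ⊤ p)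

theorem LerayVan.quotient {m : ℕ} (h : LerayVan f G (m + 1)) : LerayVan f (embedSeq G).X₃ m :=
  fun j hj hjm => by
    obtain ⟨O, hO, hA⟩ := h (j + 1) (by omega) (by omega)
    refine ⟨O, fun x hx => killedAt_quotient f hj (hO x hx), ?_⟩
    rwa [show m + 1 - (j + 1) = m - j by omega] at hA

theorem LerayVan.cok {m : ℕ} (h : LerayVan f G (m + 1)) : Subsingleton (Sheaf.H (cokS f G).X₃ m) := by
  obtain ⟨O, hO, hA⟩ := h 1 le_rfl (by omega)
  rw [Nat.add_sub_cancel] at hA
  exact hA _ fun x hx => subsingleton_stalk_cok f G (hO x hx)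

/-- Surjectivity of the edge map. -/
theorem edge_surjective : ∀ (p : ℕ) (G : CohTop.Ab Y), LerayVan f G p → Function.Surjective (edgeAb f G p)
  | 0, G, _ => (edgeAb_bijective_zero f G).2
  | p + 1, G, hG => fun x => by
    haveI : Injective (embedSeq G).X₂ := inferInstance
    obtain ⟨y, rfl⟩ := (CohFinite.map_f_eq_zero_iff (embedSeq_shortExact G) p x).1 (Subsingleton.elim _ _)
    obtain ⟨w, rfl⟩ := edge_surjective p _ hG.quotient y
    haveI := hG.cok
    obtain ⟨b, rfl⟩ := (CohFinite.map_g_eq_zero_iff (cokS_shortExact f G) p w).1 (Subsingleton.elim _ _)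
    exact ⟨CohFinite.δH (imS_shortExact f G) p b, edge_δ f G p b⟩

/-- Injectivity of the edge map. -/
theorem edge_injective : ∀ (p : ℕ) (G : CohTop.Ab Y), (∀ m, m + 1 = p → LerayVan f G m) →
    Function.Injective (edgeAb f G p)
  | 0, G, _ => (edgeAb_bijective_zero f G).1
  | p + 1, G, hG => by
    haveI : Injective (embedSeq G).X₂ := inferInstance
    have hS := embedSeq_shortExact G
    refine (injective_iff_map_eq_zero _).2 fun x hx => ?_
    haveI := subsingleton_push_injective f G p
    obtain ⟨b, rfl⟩ := (CohFinite.map_f_eq_zero_iff (imS_shortExact f G) p x).1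
      ((subsingleton_push_injective f G p).elim _ _)
    rw [edge_δ] at hx
    have hinj : Function.Injective (edgeAb f (embedSeq G).X₃ p) :=
      edge_injective p _ fun m hm => (hm ▸ hG p rfl : LerayVan f G (m + 1)).quotient
    obtain ⟨z, hz⟩ := (CohFinite.δH_eq_zero_iff hS p _).1 hx
    obtain ⟨w, rfl⟩ : ∃ w, edgeAb f (embedSeq G).X₂ p w = z := by
      cases p with
      | zero => exact (edgeAb_bijective_zero f _).2 z
      | succ q => exact ⟨0, Subsingleton.elim _ _⟩
    have h1 : Sheaf.H.map ((CohTop.push f).map (embedSeq G).g) p w = Sheaf.H.map (cokS f G).f p b :=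
      hinj ((edgeAb_natural f (embedSeq G).g p w).trans hz)
    rw [← Abelian.image.fac ((CohTop.push f).map (embedSeq G).g), Sheaf.H.map_comp_apply] at h1
    refine (CohFinite.δH_eq_zero_iff (imS_shortExact f G) p b).2 ⟨w, ?_⟩
    have hm : Function.Injective (Sheaf.H.map (cokS f G).f p) := by
      cases p with
      | zero => exact CohFinite.map_f_injective (cokS_shortExact f G)
      | succ q =>
        refine (injective_iff_map_eq_zero _).2 fun c hc => ?_
        haveI := (hG (q + 1) rfl).cok
        obtain ⟨y, rfl⟩ := (CohFinite.map_f_eq_zero_iff (cokS_shortExact f G) q c).1 hc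
        rw [Subsingleton.elim y 0, map_zero]
    exact hm h1

end Groth.Agent.CohBig
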