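import Groth.Agent.CohBig.Eval
import Groth.Agent.CohBig.Chains
import Groth.Agent.Nakai.FlatEuler
import Groth.Agent.W7Exist.Induct
import Groth.Agent.W7Hull.Avoid
import Groth.Agent.CurveRR.TmapR
import Groth.Agent.CohFinite.PushLinear
import Groth.Agent.RefStalk.Refl

/-!
Vanishing of the top cohomology for tensor powers of a module pulling back to an ample one.
-/

set_option autoImplicit false
set_option backward.isDefEq.respectTransparency false
set_option linter.style.haveILetI false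

universe u

open CategoryTheory CategoryTheory.Limits AlgebraicGeometry TopologicalSpace Opposite
open Groth.Agent.W7Hull (st st_comp)
open Groth.Agent.SiteCoh

noncomputable section

namespace Groth.Agent.CohBig

variable {X Y : Scheme.{u}}

theorem isCoh_pow [IsLocallyNoetherian X] {F : X.Modules} (hF : Coh.IsCoh F) :
    ∀ n : ℕ, Coh.IsCoh (CohB1.tensorPow F n)
  | 0 => RefStalk.isCoh_structureModule
  | n + 1 => CurveRR.isCoh_tensor' (isCoh_pow hF n) hF

/-- Isomorphisms of pullbacks after restriction to a smaller open. -/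
theorem nonempty_restrict_le {M N : Y.Modules} {O V : Y.Opens} (h : O ≤ V)
    (e : M.restrict V.ι ≅ N.restrict V.ι) : Nonempty (M.restrict O.ι ≅ N.restrict O.ι) := by
  obtain ⟨a⟩ := TMul.nonempty_restrictRestrictIso V.ι (Y.homOfLE h) O.ι (Y.homOfLE_ι h) M
  obtain ⟨b⟩ := TMul.nonempty_restrictRestrictIso V.ι (Y.homOfLE h) O.ι (Y.homOfLE_ι h) N
  exact ⟨a.symm ≪≫ (Scheme.Modules.restrictFunctor (Y.homOfLE h)).mapIso e ≪≫ b⟩

/-- `f^*(K ⊗ F^n)` is `f^*K ⊗ L^n` where `f^*F` is `L`. -/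
theorem nonempty_twist (f : Y ⟶ X) (K F : X.Modules) (L : Y.Modules) (O : Y.Opens)
    (e : ((Scheme.Modules.pullback f).obj F).restrict O.ι ≅ L.restrict O.ι) (n : ℕ) :
    Nonempty (((Scheme.Modules.pullback f).obj (CohB1.tensorMod K (CohB1.tensorPow F n))).restrict O.ι ≅
      (CohB1.tensorMod ((Scheme.Modules.pullback f).obj K) (CohB1.tensorPow L n)).restrict O.ι) := by
  obtain ⟨t⟩ := TMul.nonempty_pullTensorIso f K (CohB1.tensorPow F n)
  obtain ⟨p⟩ := TMul.nonempty_pullPowIso f F n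
  let K' := (Scheme.Modules.pullback f).obj K
  let F' := (Scheme.Modules.pullback f).obj F
  obtain ⟨r₁⟩ := TMul.nonempty_restrictTensorIso O.ι K' (CohB1.tensorPow F' n)
  obtain ⟨r₂⟩ := TMul.nonempty_restrictTensorIso O.ι K' (CohB1.tensorPow L n)
  obtain ⟨q₁⟩ := TMul.nonempty_restrictPowIso O.ι F' n
  obtain ⟨q₂⟩ := TMul.nonempty_restrictPowIso O.ι L n
  obtain ⟨c⟩ := TMul.nonempty_powCongr e n
  exact ⟨(Scheme.Modules.restrictFunctor O.ι).mapIso
      (t.symm ≪≫ PicGrp.tensorModIso (Iso.refl K') p.symm) ≪≫ r₁.symm ≪≫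
    PicGrp.tensorModIso (Iso.refl _) (q₁.symm ≪≫ c ≪≫ q₂) ≪≫ r₂⟩

theorem subsingleton_push [IsNoetherian Y] (f : Y ⟶ X) {M : Y.Modules}
    (hM : DirectAcyclic (Opens.grothendieckTopology X) (Opens.map f.base) (Coh.toAb M)) (i : ℕ)
    (h : Subsingleton (Coh.HH Y M i)) :
    Subsingleton (Coh.HH X ((Scheme.Modules.pushforward f).obj M) i) := by
  obtain ⟨a, -⟩ := CohFinite.h_push_natural f.base i
  exact (a (Coh.toAb M) hM).symm.toEquiv.subsingleton

theorem main {S : Type u} [CommRing S] [IsNoetherianRing S]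
    [IsNoetherian X] [IsNoetherian Y] (pY : Y ⟶ Spec (CommRingCat.of S)) [IsProper pY]
    (f : Y ⟶ X) [IsProper f]
    (U : X.Opens) (hU : Dense (U : Set X)) (hU' : Dense ((f ⁻¹ᵁ U : Y.Opens) : Set Y)) (hiso : IsIso (f ∣_ U))
    (e : ℕ) (hX : topologicalKrullDim X ≤ (e + 1 : ℕ)) (hY : topologicalKrullDim Y ≤ (e + 1 : ℕ))
    (L : Y.Modules) (hL : CohB1.IsAmple L)
    (V : X.Opens) (hV : ∀ y : X, ringKrullDim (X.presheaf.stalk y) ≤ 1 → y ∈ V)
    (F : X.Modules) (hF : Coh.IsCoh F)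
    (hFL : ((Scheme.Modules.pullback f).obj F).restrict (f ⁻¹ᵁ V).ι ≅ L.restrict (f ⁻¹ᵁ V).ι)
    (G : X.Modules) (hG : Coh.IsCoh G) :
    ∃ n₀ : ℕ, ∀ n : ℕ, n₀ ≤ n → ∀ i : ℕ, e + 1 ≤ i →
      Subsingleton (Coh.HH X (CohB1.tensorMod G (CohB1.tensorPow F n)) i) := by
  haveI := hiso
  have hUn : NoLong U (e + 1) := noLong_dense hX U hU
  have hbot : NoLong (⊥ : X.Opens) (e + 1 + 1) := noLong_bot hX
  let O : X.Opens := V ⊓ finLocus f
  have hO : NoLong O e := noLong_finLocus f hX hY U hU' hiso V hV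
  have hO1 : NoLong O (e + 1) := hO.mono (Nat.le_succ e)
  haveI : IsFinite (f ∣_ O) := isFinite_finLocus f inf_le_right
  have hA : Coh.IsCoh (pushO f) := W7Exist.isCoh_push_proper f RefStalk.isCoh_structureModule
  let H := RefHull.homSh (pushO f) (Coh.structureModule X)
  have hH : Coh.IsCoh H := RefStalk.isCoh_homSh hA RefStalk.isCoh_structureModule
  let K := CohB1.tensorMod H G
  have hK : Coh.IsCoh K := CurveRR.isCoh_tensor' hH hG
  let Q := (Scheme.Modules.pullback f).obj K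
  have hQ : Coh.IsCoh Q := QC.isCoh_pullback f hK
  obtain ⟨n₁, hn₁⟩ := Nakai.exists_directAcyclic_twist f hL hQ
  obtain ⟨n₂, hn₂⟩ := CohFinite.vanish_ample pY hL hQ
  obtain ⟨eO⟩ := nonempty_restrict_le (f.preimage_mono (inf_le_left : O ≤ V)) hFL
  refine ⟨max n₁ n₂, fun n hn i hi => ?_⟩
  let M := CohB1.tensorMod Q (CohB1.tensorPow L n)
  -- the direct image of the twist has no cohomology
  have h0 : Subsingleton (Coh.HH X ((Scheme.Modules.pushforward f).obj M) i) := by
    refine subsingleton_push f (hn₁ n (le_of_max_le_left hn)) i ?_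
    obtain ⟨p, rfl⟩ : ∃ p, i = p + 1 := ⟨i - 1, by omega⟩
    exact hn₂ n (le_of_max_le_right hn) p
  let P := CohB1.tensorMod K (CohB1.tensorPow F n)
  have hP : Coh.IsCoh P := CurveRR.isCoh_tensor' hK (isCoh_pow hF n)
  obtain ⟨φ⟩ := nonempty_twist f K F L (f ⁻¹ᵁ O) eO n
  have hM : Coh.IsQCoh M := (CohFinite.isCoh_tensor hQ (TMul.isInvertible_tensorPow hL.1 n)).1
  obtain ⟨B, ι, φ', -, -, hι, hφ'⟩ := W7Hull.exists_extend_hom (F := (Scheme.Modules.pullback f).obj P) (G := M)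
    (QC.isQCoh_pullback f hP.1) hM (f ⁻¹ᵁ O) φ.hom
  haveI := hι
  haveI : IsIso ((Scheme.Modules.restrictFunctor (f ⁻¹ᵁ O).ι).map φ') := by
    rw [hφ']
    exact IsIso.comp_isIso' hι inferInstance
  have hbφ : ∀ x ∈ O, Function.Bijective (st ((Scheme.Modules.pushforward f).map φ') x) :=
    fun x hx => push_bijective f φ' O hx
  have hbι : ∀ x ∈ O, Function.Bijective (st ((Scheme.Modules.pushforward f).map ι) x) :=
    fun x hx => push_bijective f ι O hx
  have h1 : Subsingleton (Coh.HH X ((Scheme.Modules.pushforward f).obj B) i) :=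
    transfer_inj _ O O hO1 hO (fun x hx => (hbφ x hx).1) (fun x hx => (hbφ x hx).2) hi h0
  have h2 : Subsingleton (Coh.HH X (pushPull f P) i) :=
    transfer_surj _ O hO1 hbot (fun x hx => (hbι x hx).2) hi h1
  have h3 : Subsingleton (Coh.HH X (CohB1.tensorMod P (pushO f)) i) :=
    transfer_inj (pm f P) U O hUn hO (fun x hx => pm_injective f hP.1 U hx)
      (fun x hx => pm_surjective f hP.1 O hx) hi h2
  have h4 : Subsingleton (Coh.HH X
      (CohB1.tensorMod (CohB1.tensorMod H (pushO f)) (CohB1.tensorMod G (CohB1.tensorPow F n))) i) :=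
    CohQC.hh_subsingleton_of_iso (shuffle H G (CohB1.tensorPow F n) (pushO f)) _ h3
  have h5 : Subsingleton (Coh.HH X
      (CohB1.tensorMod (Coh.structureModule X) (CohB1.tensorMod G (CohB1.tensorPow F n))) i) :=
    transfer_surj (CohFinite.tmap (ev (pushO f) (Coh.structureModule X)) _) U hUn hbot
      (fun x hx => tmap_surjective _ _ (ev_surjective f hA.1 U hx)) hi h4
  exact CohQC.hh_subsingleton_of_iso (TMul.leftUnitIso _) _ h5

end Groth.Agent.CohBig
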