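import Groth.Agent.CohBig.FinitePull
import Groth.Agent.Devissage.Apply2
import Groth.Agent.W7Hull.Avoid

/-!
Modules supported on a closed subscheme of small cohomological dimension.
-/

set_option autoImplicit false
set_option backward.isDefEq.respectTransparency false
set_option linter.style.haveILetI false
set_option maxHeartbeats 800000

universe u

open CategoryTheory CategoryTheory.Limits AlgebraicGeometry TopologicalSpace Opposite
open Groth.Agent.W7Hull (st)
open Groth.Agent.SiteCoh

noncomputable section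

namespace Groth.Agent.CohBig

variable {X Z : Scheme.{u}} [IsNoetherian X] (ι : Z ⟶ X) [IsClosedImmersion ι] {m : ℕ}

/-- Coherent modules supported on a closed subscheme inherit its vanishing. -/
theorem hh_vanish_supp (hcd : ∀ G : Z.Modules, Coh.IsQCoh G → ∀ i, m ≤ i → Subsingleton (Coh.HH Z G i))
    (M : X.Modules) (hM : Coh.IsCoh M) (hs : CohB1.support M ⊆ Set.range ι) (i : ℕ) (hi : m ≤ i) :
    Subsingleton (Coh.HH X M i) := by
  let B : Closeds X := ⟨Set.range ι, ι.isClosedEmbedding.isClosed_range⟩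
  refine Devissage.dev_core (fun N => ∀ j, m ≤ j → Subsingleton (Coh.HH X N j))
    (fun N hN j _ => subsingleton_of_stalks N ⊤ (noLong_top 0) (fun x _ => ?_) j (Nat.zero_le _)) B
    (fun S hS _ _ _ _ h1 h3 j hj => CohQC.subsingleton_hh_middle hS j (h1 j hj) (h3 j hj))
    (fun ξ hξ _ R hR j hj => ?_) M hM hs i hi
  · exact subsingleton_of_forall_eq 0 fun z => by
      have h := congrArg (fun φ => W7Hull.st φ x z) (hN.eq_of_src (𝟙 N) 0)
      simpa [W7Hull.st_id, W7Hull.st_zero] using h
  · obtain ⟨I, -, -, hI, -, ⟨e⟩⟩ := Devissage.piece_iso_push hR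
    have hle : ι.ker ≤ (Devissage.Zi ξ).ker := by
      rw [Scheme.IdealSheafData.ker_subschemeι]
      refine Scheme.IdealSheafData.le_support_iff_le_vanishingIdeal.1 ?_
      refine SetLike.coe_subset_coe.1 ?_
      rw [ι.support_ker]
      exact (closure_minimal (Set.singleton_subset_iff.2 hξ) B.isClosed).trans subset_closure
    let l := IsClosedImmersion.lift ι (Devissage.Zi ξ) hle
    have hl : l ≫ ι = Devissage.Zi ξ := IsClosedImmersion.lift_fac _ _ _
    haveI : IsClosedImmersion (l ≫ ι) := by rw [hl]; infer_instance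
    haveI : IsClosedImmersion l := IsClosedImmersion.of_comp l ι
    haveI : I.IsQuasicoherent := hI
    haveI hlI : ((Scheme.Modules.pushforward l).obj I).IsQuasicoherent := QC.isQCoh_pushforward l
    refine CohQC.hh_subsingleton_of_iso (((Scheme.Modules.pushforwardComp l ι).app I) ≪≫
      (Scheme.Modules.pushforwardCongr hl).app I ≪≫ e.symm) j ?_
    obtain ⟨a, -⟩ := CohFinite.h_push_natural ι.base j
    exact @Equiv.subsingleton _ _ (a _ (CohQC.directAcyclic_of_isAffineHom ι _)).symm.toEquiv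
      (hcd ((Scheme.Modules.pushforward l).obj I) hlI j hj)

omit [AlgebraicGeometry.IsNoetherian X] in
theorem bijective_st_of_isIso_restrict {B F : X.Modules} (φ : B ⟶ F) (O : X.Opens)
    [IsIso ((Scheme.Modules.restrictFunctor O.ι).map φ)] {x : X} (hx : x ∈ O) : Function.Bijective (st φ x) :=
  ⟨st_injective_of_app φ O (fun W hW => (bijective_app_of_isIso_restrict φ O W hW).1) hx,
    st_surjective_of_app φ O (fun W _ hW => (bijective_app_of_isIso_restrict φ O W hW).2) hx⟩

theorem bijective_map_of_small {B F : X.Modules} (φ : B ⟶ F) (U : X.Opens) {k : ℕ}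
    (hK : ∀ M : X.Modules, Coh.IsCoh M → (∀ x ∈ U, Subsingleton (M.presheaf.stalk x)) →
      ∀ j, k + 1 ≤ j → Subsingleton (Coh.HH X M j))
    (hB : Coh.IsCoh B) (hF : Coh.IsCoh F) (hφ : ∀ x ∈ U, Function.Bijective (st φ x)) {i : ℕ} (hi : k + 2 ≤ i) :
    Nonempty (Coh.HH X B i ≃+ Coh.HH X F i) := by
  obtain ⟨j, rfl⟩ : ∃ j, i = j + 1 := ⟨i - 1, by omega⟩
  have hker : Coh.IsCoh (kernel φ) := QC.isCoh_of_mono (kernel.ι φ) hB (QC.isQCoh_kernel hB.1 hF.1 φ)
  have hcok : Coh.IsCoh (cokernel φ) := QC.isCoh_cokernel hB.1 hF φ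
  have hk1 := fun p hp => hK _ hker (fun x hx => subsingleton_kernel φ (hφ x hx).1) p hp
  have hc1 := fun p hp => hK _ hcok (fun x hx => subsingleton_cokernel φ (hφ x hx).2) p hp
  have h1 := CohFinite.shortExact_toAb (imSeq_shortExact φ)
  have h2 := CohFinite.shortExact_toAb (cokSeq_shortExact φ)
  haveI := hk1 (j + 1) (by omega)
  haveI := hk1 (j + 1 + 1) (by omega)
  haveI := hc1 j (by omega)
  haveI := hc1 (j + 1) (by omega)
  refine ⟨(AddEquiv.ofBijective (Sheaf.H.map ((SheafOfModules.toSheaf X.ringCatSheaf).map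
    (Abelian.factorThruImage φ)) (j + 1)) ⟨?_, ?_⟩).trans (AddEquiv.ofBijective
    (Sheaf.H.map ((SheafOfModules.toSheaf X.ringCatSheaf).map (Abelian.image.ι φ)) (j + 1)) ⟨?_, ?_⟩)⟩
  · refine (injective_iff_map_eq_zero _).2 fun x hx => ?_
    obtain ⟨y, rfl⟩ := (CohFinite.map_g_eq_zero_iff h1 _ x).1 hx
    exact (congrArg _ ((hk1 (j + 1) (by omega)).elim y 0)).trans (map_zero _)
  · intro x
    exact (CohFinite.δH_eq_zero_iff h1 _ x).1 ((hk1 (j + 1 + 1) (by omega)).elim _ _)
  · refine (injective_iff_map_eq_zero _).2 fun x hx => ?_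
    obtain ⟨y, rfl⟩ := (CohFinite.map_f_eq_zero_iff h2 _ x).1 hx
    exact (congrArg _ ((hc1 j (by omega)).elim y 0)).trans (map_zero _)
  · intro x
    exact (CohFinite.map_g_eq_zero_iff h2 _ x).1 ((hc1 (j + 1) (by omega)).elim _ _)

end Groth.Agent.CohBig
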